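import Cfsg.Agent.Lib.SLPres.Presents
import Cfsg.Agent.Lib.AltPres.General

/-!
# Tools for presentations on two or three generators
-/

set_option autoImplicit false

namespace CfsgLib.SLPres

universe u

theorem Presents.transport {T T' : Type u} [Group T] [Group T'] [Finite T] {k r : ℕ} (h : Presents T k r)
    (e : T ≃* T') : Presents T' k r :=
  AltPres.transport e k r h

theorem Presents.mono {T : Type u} [Group T] {k r r' : ℕ} (h : Presents T k r) (hr : r ≤ r') :
    Presents T k r' := by
  obtain ⟨L, π, hL, h⟩ := h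
  exact ⟨L, π, hL.trans hr, h⟩

/-- One more generator costs one more relation. -/
theorem Presents.addGen {T : Type u} [Group T] {k r : ℕ} (h : Presents T k r) :
    Presents T (k + 1) (r + 1) := by
  obtain ⟨L, π, hL, hs, hr, hc⟩ := h
  let ι : FreeGroup (Fin k) →* FreeGroup (Fin (k + 1)) := FreeGroup.map Fin.castSucc
  let π' : FreeGroup (Fin (k + 1)) →* T :=
    FreeGroup.lift (Fin.lastCases 1 fun i => π (FreeGroup.of i))
  have hπ' : π'.comp ι = π := FreeGroup.ext_hom _ _ fun i => by simp [π', ι]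
  refine ⟨FreeGroup.of (Fin.last k) :: L.map ι, π', by simpa using hL, ?_, fun x hx => ?_,
    fun G _ ψ hψ hx => ?_⟩
  · intro t
    obtain ⟨x, rfl⟩ := hs t
    exact ⟨ι x, DFunLike.congr_fun hπ' x⟩
  · rcases List.mem_cons.mp hx with rfl | hx
    · simp [π']
    · obtain ⟨y, hy, rfl⟩ := List.mem_map.mp hx
      exact (DFunLike.congr_fun hπ' y).trans (hr y hy)
  · refine hc G (ψ.comp ι) ?_ fun x h => hx _ (List.mem_cons_of_mem _ (List.mem_map.mpr ⟨x, h, rfl⟩))
    rw [← MonoidHom.range_eq_top, eq_top_iff, ← MonoidHom.range_eq_top.mpr hψ, MonoidHom.range_eq_map,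
      ← FreeGroup.closure_range_of, MonoidHom.map_closure, Subgroup.closure_le]
    rintro _ ⟨_, ⟨i, rfl⟩, rfl⟩
    induction i using Fin.lastCases with
    | last => rw [hx _ (List.mem_cons_self ..)]; exact one_mem _
    | cast i => exact ⟨FreeGroup.of i, by simp [ι]⟩

theorem Presents.presented {T : Type u} [Group T] [Finite T] {k r : ℕ} (h : Presents T k r) :
    ∃ rels : Finset (FreeGroup (Fin k)), rels.card ≤ r ∧
      Nonempty (PresentedGroup (↑rels : Set (FreeGroup (Fin k))) ≃* T) := by
  classical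
  obtain ⟨L, π, hL, hs, hr, hc⟩ := h
  refine ⟨L.toFinset, (List.toFinset_card_le L).trans hL, ?_⟩
  set R : Set (FreeGroup (Fin k)) := ↑L.toFinset
  have hl : FreeGroup.lift (fun i => π (FreeGroup.of i)) = π := FreeGroup.ext_hom _ _ fun i => by simp
  have h1 : ∀ x ∈ R, FreeGroup.lift (fun i => π (FreeGroup.of i)) x = 1 := fun x hx => by
    rw [hl]; exact hr x (by simpa [R] using hx)
  let f := PresentedGroup.toGroup h1
  have hfs : Function.Surjective f := fun t => by
    obtain ⟨x, rfl⟩ := hs t
    refine ⟨PresentedGroup.mk R x, ?_⟩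
    have : f.comp (PresentedGroup.mk R) = π := FreeGroup.ext_hom _ _ fun i => by
      show f (PresentedGroup.of i) = _
      exact PresentedGroup.toGroup.of h1
    exact DFunLike.congr_fun this x
  obtain ⟨hfin, hle⟩ := hc (PresentedGroup R) (PresentedGroup.mk R) (PresentedGroup.mk_surjective R)
    fun x hx => PresentedGroup.one_of_mem (by simpa [R] using hx)
  exact ⟨MulEquiv.ofBijective f ((Nat.bijective_iff_surjective_and_card _).mpr
    ⟨hfs, le_antisymm hle (Nat.card_le_card_of_surjective f hfs)⟩)⟩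

/-- Any generating pair costs two relations. -/
theorem Presents.pair {T : Type u} [Group T] [Finite T] {k r : ℕ} (h : Presents T k r)
    {a b : T} (hab : Subgroup.closure ({a, b} : Set T) = ⊤) :
    ∃ rels : Finset (FreeGroup (Fin 2)), rels.card ≤ r + 2 ∧
      ∃ e : PresentedGroup (↑rels : Set (FreeGroup (Fin 2))) ≃* T,
        e (PresentedGroup.of 0) = a ∧ e (PresentedGroup.of 1) = b := by
  classical
  obtain ⟨L, π, hL, hs, hr, hc⟩ := h
  set φ := FreeGroup.lift ![a, b] with hφ
  have hφs : Function.Surjective φ := by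
    rw [← MonoidHom.range_eq_top, eq_top_iff, ← hab, Subgroup.closure_le]
    rintro x (rfl | rfl)
    · exact ⟨.of 0, by simp [hφ]⟩
    · exact ⟨.of 1, by simp [hφ]⟩
  choose w hw using fun i : Fin k => hφs (π (.of i))
  obtain ⟨wa, hwa⟩ := hs a
  obtain ⟨wb, hwb⟩ := hs b
  set sub := FreeGroup.lift w with hsub
  have hsubπ : φ.comp sub = π := FreeGroup.ext_hom _ _ fun i => by simp [hsub, hw]
  have happ : ∀ x, φ (sub x) = π x := fun x => DFunLike.congr_fun hsubπ x
  let M : List (FreeGroup (Fin 2)) := .of 0 * (sub wa)⁻¹ :: .of 1 * (sub wb)⁻¹ :: L.map sub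
  refine ⟨M.toFinset, (List.toFinset_card_le M).trans (by simp [M]; omega), ?_⟩
  set R : Set (FreeGroup (Fin 2)) := ↑M.toFinset with hR
  have hmem : ∀ x ∈ M, PresentedGroup.mk R x = 1 :=
    fun x hx => PresentedGroup.one_of_mem (by simp only [hR, List.coe_toFinset]; exact hx)
  have hlift : ∀ x ∈ R, FreeGroup.lift ![a, b] x = 1 := by
    intro x hx
    simp only [hR, List.coe_toFinset, Set.mem_ofPred_eq, M, List.mem_cons, List.mem_map] at hx
    rw [← hφ]
    rcases hx with rfl | rfl | ⟨y, hy, rfl⟩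
    · rw [map_mul, map_inv, happ, hwa]; simp [hφ]
    · rw [map_mul, map_inv, happ, hwb]; simp [hφ]
    · rw [happ, hr y hy]
  set ψ := (PresentedGroup.mk R).comp sub
  have hψ : Function.Surjective ψ := by
    rw [← MonoidHom.range_eq_top, eq_top_iff, ← PresentedGroup.closure_range_of R, Subgroup.closure_le]
    rintro _ ⟨i, rfl⟩
    fin_cases i
    · refine ⟨wa, ?_⟩
      have := hmem (.of 0 * (sub wa)⁻¹) (List.mem_cons_self ..)
      rw [map_mul, map_inv, mul_inv_eq_one] at this
      exact this.symm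
    · refine ⟨wb, ?_⟩
      have := hmem (.of 1 * (sub wb)⁻¹) (List.mem_cons_of_mem _ (List.mem_cons_self ..))
      rw [map_mul, map_inv, mul_inv_eq_one] at this
      exact this.symm
  obtain ⟨hfin, hle⟩ := hc (PresentedGroup R) ψ hψ fun x hx => hmem _
    (List.mem_cons_of_mem _ (List.mem_cons_of_mem _ (List.mem_map.mpr ⟨x, hx, rfl⟩)))
  let f : PresentedGroup R →* T := PresentedGroup.toGroup hlift
  have hfs : Function.Surjective f := by
    intro t
    obtain ⟨x, rfl⟩ := hφs t
    refine ⟨PresentedGroup.mk R x, ?_⟩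
    have : f.comp (PresentedGroup.mk R) = φ := FreeGroup.ext_hom _ _ fun i => by
      show f (PresentedGroup.of i) = _
      rw [PresentedGroup.toGroup.of hlift]; simp [hφ]
    exact DFunLike.congr_fun this x
  refine ⟨MulEquiv.ofBijective f ((Nat.bijective_iff_surjective_and_card _).mpr
    ⟨hfs, le_antisymm hle (Nat.card_le_card_of_surjective f hfs)⟩), ?_, ?_⟩ <;>
  · show f (PresentedGroup.of _) = _
    rw [PresentedGroup.toGroup.of hlift]; rfl

/-- The trivial group: kill every generator. -/
theorem presents_subsingleton {T : Type u} [Group T] [Subsingleton T] (k : ℕ) : Presents T k k := by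
  refine ⟨(List.finRange k).map FreeGroup.of, 1, by simp, fun t => ⟨1, Subsingleton.elim _ _⟩,
    fun _ _ => rfl, fun G _ ψ hψ hx => ?_⟩
  have h1 : ψ = 1 := FreeGroup.ext_hom _ _ fun i => by
    simpa using hx (FreeGroup.of i) (by simp)
  haveI : Subsingleton G := ⟨fun x y => by
    obtain ⟨u, rfl⟩ := hψ x; obtain ⟨v, rfl⟩ := hψ y; simp [h1]⟩
  exact ⟨inferInstance, by rw [Nat.card_of_subsingleton (1 : G), Nat.card_of_subsingleton (1 : T)]⟩

end CfsgLib.SLPres
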