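import Cfsg.Agent.Lib.AltPres.TwoGen.Basic
import Cfsg.Agent.Lib.AltPres.TwoGen.Pair

/-!
# Alternating groups on two generators and seven relations
-/

set_option autoImplicit false

namespace CfsgLib.AltPres.TwoGen

open Equiv CfsgLib.AltPres CfsgLib.SLPres

/-! ### Words -/

/-- The translates of `z` under powers of `a`. -/
def zfn {G : Type*} [Group G] (p : ℕ) (a z : G) (i : ZMod p) : G := a ^ i.val * z * (a ^ i.val)⁻¹

theorem map_word {G H : Type*} [Group G] [Group H] {p : ℕ} (f : G →* H) (a z : G) (w : FreeGroup (ZMod p)) :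
    f (FreeGroup.lift (zfn p a z) w) = FreeGroup.lift (zfn p (f a) (f z)) w := by
  have : f.comp (FreeGroup.lift (zfn p a z)) = FreeGroup.lift (zfn p (f a) (f z)) :=
    FreeGroup.ext_hom _ _ fun i => by simp [zfn]
  exact DFunLike.congr_fun this w

theorem exists_word {p : ℕ} [Fact p.Prime] (g : alternatingGroup (Bool ⊕ ZMod p)) :
    ∃ w : FreeGroup (ZMod p), FreeGroup.lift (cycA (Ω := ZMod p)) w = g :=
  MonoidHom.mem_range.mp (by rw [FreeGroup.range_lift_eq_closure, closure_cycA]; trivial)

theorem word_eq {G : Type*} [Group G] {p : ℕ} [Fact p.Prime]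
    (θ : alternatingGroup (Bool ⊕ ZMod p) →* G) (a z : G) (hθ : ∀ i, θ (cycA i) = zfn p a z i)
    (w : FreeGroup (ZMod p)) : FreeGroup.lift (zfn p a z) w = θ (FreeGroup.lift cycA w) := by
  have : θ.comp (FreeGroup.lift cycA) = FreeGroup.lift (zfn p a z) :=
    FreeGroup.ext_hom _ _ fun i => by simp [hθ]
  exact (DFunLike.congr_fun this w).symm

/-- Twisted translates of `z` under `t`. -/
def wseq {G : Type*} [Group G] (o : Bool) (z t : G) : ℕ → G
  | 0 => z
  | s + 1 => tw o (t * wseq o z t s * t⁻¹)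

theorem map_wseq {G H : Type*} [Group G] [Group H] (f : G →* H) (o : Bool) (z t : G) :
    ∀ s, f (wseq o z t s) = wseq o (f z) (f t) s
  | 0 => rfl
  | s + 1 => by simp only [wseq, map_tw, map_mul, map_inv, map_wseq f o z t s]

/-- The double transposition exchanging two neighbours. -/
def xel {G : Type*} [Group G] (W : ℕ → G) (j : ℕ) : G := W j * (W (j + 1))⁻¹ * W j

/-- The product of all neighbour exchanges. -/
def xprod {G : Type*} [Group G] (W : ℕ → G) (N : ℕ) : G := ((List.range (N - 1)).map (xel W)).prod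

theorem map_xprod {G H : Type*} [Group G] [Group H] (f : G →* H) (W : ℕ → G) (N : ℕ) :
    f (xprod W N) = xprod (fun s => f (W s)) N := by
  simp only [xprod, map_list_prod, List.map_map]
  congr 1
  exact List.map_congr_left fun j _ => by simp [xel]

theorem xprod_congr {G : Type*} [Group G] {W W' : ℕ → G} {N : ℕ} (h : ∀ s < N, W s = W' s) :
    xprod W N = xprod W' N := by
  simp only [xprod]
  congr 1
  refine List.map_congr_left fun j hj => ?_
  rw [List.mem_range] at hj
  simp only [xel, h j (by omega), h (j + 1) (by omega)]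

theorem xprod_mem {G : Type*} [Group G] {W : ℕ → G} {N : ℕ} (H : Subgroup G) (h : ∀ s < N, W s ∈ H) :
    xprod W N ∈ H := by
  refine list_prod_mem fun x hx => ?_
  obtain ⟨j, hj, rfl⟩ := List.mem_map.mp hx
  rw [List.mem_range] at hj
  exact mul_mem (mul_mem (h j (by omega)) (inv_mem (h (j + 1) (by omega)))) (h j (by omega))

/-! ### Three-cycles with two common points -/

section Triple

variable {G : Type*} [Group G] {u v w : G}

theorem flip_self (huv : u * v * (u * v) = 1) : v * u * v = u⁻¹ :=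
  (inv_eq_of_mul_eq_one_right (by simpa [mul_assoc] using huv)).symm

theorem conj_flip (hv : v * v * v = 1) (huv : u * v * (u * v) = 1) : v * u * v⁻¹ = u⁻¹ * v := by
  calc v * u * v⁻¹ = v * u * v * (v * v * v)⁻¹ * v := by group
    _ = _ := by rw [flip_self huv, hv]; group

theorem conj_mid (hv : v * v * v = 1) (hw : w * w * w = 1) (hvw : v * w * (v * w) = 1) :
    v * w⁻¹ * v * v * (v * w⁻¹ * v)⁻¹ = w⁻¹ := by
  have e : v * w * v = w⁻¹ := flip_self (pair_symm hvw)
  have e2 : w * v * w = v⁻¹ := flip_self hvw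
  calc v * w⁻¹ * v * v * (v * w⁻¹ * v)⁻¹ = v * w⁻¹ * (v * w) * v⁻¹ := by group
    _ = v * w⁻¹ * (w⁻¹ * (w * v * w)) * v⁻¹ := by group
    _ = v * (w * w * w)⁻¹ * w * (v * v * v)⁻¹ * v := by rw [e2]; group
    _ = w⁻¹ := by rw [hv, hw, ← e]; group

theorem conj_out (hv : v * v * v = 1) (huv : u * v * (u * v) = 1) (hvw : v * w * (v * w) = 1)
    (huw : u * w * (u * w) = 1) : v * w⁻¹ * v * u * (v * w⁻¹ * v)⁻¹ = u⁻¹ := by
  calc v * w⁻¹ * v * u * (v * w⁻¹ * v)⁻¹ = v * w⁻¹ * (v * u * v⁻¹) * w * v⁻¹ := by group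
    _ = v * w⁻¹ * u⁻¹ * (w⁻¹ * (w * v * w)) * v⁻¹ := by rw [conj_flip hv huv]; group
    _ = v * (w * u * w)⁻¹ * v * (v * v * v)⁻¹ := by rw [flip_self hvw]; group
    _ = u⁻¹ := by rw [flip_self huw, hv, inv_inv, inv_one, mul_one, flip_self huv]

theorem pair_of_out (hv : v * v * v = 1) (huv : u * v * (u * v) = 1) (hvw : v * w * (v * w) = 1)
    (h : v * w⁻¹ * v * u * (v * w⁻¹ * v)⁻¹ = u⁻¹) : u * w * (u * w) = 1 := by
  have e : v * (w * u * w)⁻¹ * v = v * u * v := by
    rw [flip_self huv]
    refine Eq.trans ?_ h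
    calc v * (w * u * w)⁻¹ * v = v * (w * u * w)⁻¹ * v * (v * v * v)⁻¹ := by rw [hv]; group
      _ = v * w⁻¹ * u⁻¹ * (w⁻¹ * v⁻¹) * v⁻¹ := by group
      _ = v * w⁻¹ * u⁻¹ * (w⁻¹ * (w * v * w)) * v⁻¹ := by rw [flip_self hvw]
      _ = v * w⁻¹ * (v * u * v⁻¹) * w * v⁻¹ := by rw [conj_flip hv huv]; group
      _ = _ := by group
  rw [mul_left_inj, mul_right_inj, inv_eq_iff_mul_eq_one] at e
  calc u * w * (u * w) = w⁻¹ * (w * u * w * u) * w := by group
    _ = 1 := by rw [e]; group

end Triple

/-! ### Pairs from a long product -/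

section Sequence

variable {G : Type*} [Group G]

theorem tw_xor (a b : Bool) (x : G) : tw a (tw b x) = tw (xor a b) x := by
  cases a <;> cases b <;> simp [tw]

theorem prod_invert (X : ℕ → G) (u : G) : ∀ (len a : ℕ),
    (∀ j, a ≤ j → j < a + len → X j * u * (X j)⁻¹ = u⁻¹) →
    ((List.range' a len).map X).prod * u * ((List.range' a len).map X).prod⁻¹ = tw len.bodd u := by
  intro len
  induction len with
  | zero => intro a _; simp [tw]
  | succ n ih =>
    intro a h
    have e := ih (a + 1) fun j h1 h2 => h j (by omega) (by omega)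
    rw [List.range'_succ, List.map_cons, List.prod_cons, Nat.bodd_succ]
    calc X a * ((List.range' (a + 1) n).map X).prod * u * (X a * ((List.range' (a + 1) n).map X).prod)⁻¹
        = X a * (((List.range' (a + 1) n).map X).prod * u * ((List.range' (a + 1) n).map X).prod⁻¹) *
            (X a)⁻¹ := by group
      _ = tw n.bodd (X a * u * (X a)⁻¹) := by rw [e, tw_conj]
      _ = _ := by rw [h a le_rfl (by omega)]; cases n.bodd <;> simp [tw]

theorem range_split (i k : ℕ) : List.range (i + 1 + k) = List.range' 0 i ++ [i] ++ List.range' (i + 1) k := by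
  rw [List.range_eq_range', ← List.range'_append_1, ← List.range'_append_1]
  simp

variable (W : ℕ → G) (h3 : ∀ s, W s * W s * W s = 1) (d : ℕ)
  (hp : ∀ s e, 1 ≤ e → e < d → W s * W (s + e) * (W s * W (s + e)) = 1)

include h3 hp in
theorem xel_mid (hd : 2 ≤ d) (j : ℕ) : xel W j * W j * (xel W j)⁻¹ = (W (j + 1))⁻¹ :=
  conj_mid (h3 _) (h3 _) (hp j 1 le_rfl (by omega))

include h3 hp in
theorem xel_above (i j : ℕ) (h : i < j) (hj : j + 1 - i < d) : xel W j * W i * (xel W j)⁻¹ = (W i)⁻¹ := by
  refine conj_out (h3 _) ?_ (hp j 1 le_rfl (by omega)) ?_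
  · have := hp i (j - i) (by omega) (by omega)
    rwa [show i + (j - i) = j by omega] at this
  · have := hp i (j + 1 - i) (by omega) hj
    rwa [show i + (j + 1 - i) = j + 1 by omega] at this

include h3 hp in
theorem xel_below (i j : ℕ) (h : j + 1 < i) (hj : i - j < d) : xel W j * W i * (xel W j)⁻¹ = (W i)⁻¹ := by
  refine conj_out (h3 _) (pair_symm ?_) (hp j 1 le_rfl (by omega)) (pair_symm ?_)
  · have := hp j (i - j) (by omega) hj
    rwa [show j + (i - j) = i by omega] at this
  · have := hp (j + 1) (i - (j + 1)) (by omega) (by omega)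
    rwa [show j + 1 + (i - (j + 1)) = i by omega] at this

include h3 hp in
/-- The product through position `i + k`, applied to a point below. -/
theorem prod_shift (hd : 2 ≤ d) (i k : ℕ) (hi : i + 1 < d) (hk : k + 1 < d) :
    ((List.range (i + 1 + k)).map (xel W)).prod * W i * ((List.range (i + 1 + k)).map (xel W)).prod⁻¹ =
      tw (i + 1 + k).bodd (W (i + 1)) := by
  have eA := prod_invert (xel W) (W (i + 1)) i 0 fun j _ h => xel_below W h3 d hp _ _ (by omega) (by omega)
  have eB := prod_invert (xel W) (W i) k (i + 1) fun j h1 h2 => xel_above W h3 d hp _ _ (by omega) (by omega)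
  rw [range_split, List.map_append, List.map_append, List.prod_append, List.prod_append, List.map_singleton,
    List.prod_singleton]
  set A := ((List.range' 0 i).map (xel W)).prod
  set B := ((List.range' (i + 1) k).map (xel W)).prod
  calc A * xel W i * B * W i * (A * xel W i * B)⁻¹
      = A * (xel W i * (B * W i * B⁻¹) * (xel W i)⁻¹) * A⁻¹ := by group
    _ = _ := by
      rw [eB, tw_conj, xel_mid W h3 d hp hd, tw_conj,
        show A * (W (i + 1))⁻¹ * A⁻¹ = (A * W (i + 1) * A⁻¹)⁻¹ by group, eA, Nat.bodd_add, Nat.bodd_succ]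
      cases i.bodd <;> cases k.bodd <;> simp [tw]

include h3 hp in
/-- One more distance. -/
theorem pair_step (N : ℕ) (t : G) (hd : 2 ≤ d) (hdN : d < N) (hN : N + 1 ≤ 2 * d)
    (hshift : ∀ s, t * W s * t⁻¹ = tw (N - 1).bodd (W (s + 1))) (ht : t = xprod W N) :
    W (N - 1 - d) * W (N - 1) * (W (N - 1 - d) * W (N - 1)) = 1 := by
  set i := N - 1 - d with hi
  obtain ⟨k, hk⟩ : ∃ k, N - 1 = i + 1 + k + 1 := ⟨N - 3 - i, by omega⟩
  have e := prod_shift W h3 d hp hd i k (by omega) (by omega)
  set P := ((List.range (i + 1 + k)).map (xel W)).prod with hP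
  have hL : t = P * xel W (i + 1 + k) := by
    rw [ht, xprod, hk, List.range_succ, List.map_append, List.prod_append, List.map_singleton,
      List.prod_singleton]
  have e2 : P * (xel W (i + 1 + k) * W i * (xel W (i + 1 + k))⁻¹) * P⁻¹ = P * (W i)⁻¹ * P⁻¹ := by
    rw [show P * (W i)⁻¹ * P⁻¹ = (P * W i * P⁻¹)⁻¹ by group, e]
    calc _ = t * W i * t⁻¹ := by rw [hL]; group
      _ = _ := by rw [hshift, hk, Nat.bodd_succ]; cases (i + 1 + k).bodd <;> simp [tw]
  have e3 : xel W (i + 1 + k) * W i * (xel W (i + 1 + k))⁻¹ = (W i)⁻¹ :=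
    mul_left_cancel (mul_right_cancel e2)
  rw [show N - 1 = i + 1 + k + 1 from hk]
  refine pair_of_out (h3 _) ?_ (hp (i + 1 + k) 1 le_rfl (by omega)) e3
  have := hp i (1 + k) (by omega) (by omega)
  rwa [← add_assoc] at this

end Sequence

/-- All pairs follow from the short ones and the product relation. -/
theorem exists_hom_seq {G : Type*} [Group G] (N D : ℕ) (z t : G) (hND : N ≤ 2 * D + 1)
    (h3 : z * z * z = 1)
    (hD : ∀ d, 1 ≤ d → d ≤ D → z * wseq (N - 1).bodd z t d * (z * wseq (N - 1).bodd z t d) = 1)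
    (ht : t = xprod (wseq (N - 1).bodd z t) N) :
    ∃ Φ : alternatingGroup (Bool ⊕ Fin N) →* G, ∀ i : Fin N, Φ (cycA i) = wseq (N - 1).bodd z t i := by
  set o := (N - 1).bodd
  set W := wseq o z t
  have hW3 : ∀ s, W s * W s * W s = 1 := by
    intro s
    induction s with
    | zero => exact h3
    | succ n ih =>
      exact tw_cube o (by
        show t * W n * t⁻¹ * (t * W n * t⁻¹) * (t * W n * t⁻¹) = 1
        calc _ = t * (W n * W n * W n) * t⁻¹ := by group
          _ = 1 := by rw [ih]; group)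
  have hsh : ∀ s e, W s * W (s + e) * (W s * W (s + e)) = 1 ↔ z * W e * (z * W e) = 1 := by
    intro s e
    induction s with
    | zero => rw [zero_add]; rfl
    | succ n ih => rw [← ih, add_right_comm]; exact pair_tw_iff o t _ _
  have hall : ∀ d, 1 ≤ d → d < N → z * W d * (z * W d) = 1 := by
    intro d
    induction d using Nat.strong_induction_on with
    | _ d ih =>
      intro h1 hdN
      by_cases hle : d ≤ D
      · exact hD d h1 hle
      · have e := pair_step W hW3 d (fun s e h1e he => (hsh s e).mpr (ih e he h1e (by omega))) N t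
          (by omega) hdN (by omega) (fun s => (tw_tw o _).symm) ht
        have := hsh (N - 1 - d) d
        rw [show N - 1 - d + d = N - 1 by omega] at this
        exact this.mp e
  refine exists_hom_of_family (fun i : Fin N => W i) (fun i => hW3 i) fun i j hij => ?_
  rcases lt_or_gt_of_ne (Fin.val_ne_of_ne hij) with h | h
  · have := (hsh i (j - i)).mpr (hall _ (by omega) (by omega))
    rwa [Nat.add_sub_cancel' h.le] at this
  · have := (hsh j (i - j)).mpr (hall _ (by omega) (by omega))
    rw [Nat.add_sub_cancel' h.le] at this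
    exact pair_symm this

/-! ### The model -/

section Model

variable (N : ℕ) [NeZero N]

/-- The three-cycles, indexed periodically. -/
def mcyc (s : ℕ) : alternatingGroup (Bool ⊕ Fin N) := cycA (Fin.ofNat N s)

theorem mcyc_of {s : ℕ} (h : s < N) : mcyc N s = cycA ⟨s, h⟩ := by
  unfold mcyc; congr 1; exact Fin.ext (by simp [Nat.mod_eq_of_lt h])

theorem mcyc_pair (s e : ℕ) (he : 1 ≤ e) (heN : e < N) :
    mcyc N s * mcyc N (s + e) * (mcyc N s * mcyc N (s + e)) = 1 := by
  refine cycA_pair _ _ fun h => ?_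
  have h' := congrArg Fin.val h
  simp only [Fin.val_ofNat] at h'
  have : N ∣ e := by
    have := (Nat.modEq_iff_dvd' (Nat.le_add_right s e)).mp h'
    simpa using this
  have := Nat.le_of_dvd (by omega) this
  omega

/-- The model of `t`. -/
def tmod : alternatingGroup (Bool ⊕ Fin N) := xprod (mcyc N) N

theorem tmod_shift (i : ℕ) (h : i + 1 < N) :
    tmod N * mcyc N i * (tmod N)⁻¹ = tw (N - 1).bodd (mcyc N (i + 1)) := by
  have := prod_shift (mcyc N) (fun s => cycA_cube _) N (fun s e h1 h2 => mcyc_pair N s e h1 h2) (by omega) i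
    (N - 2 - i) h (by omega)
  rwa [show i + 1 + (N - 2 - i) = N - 1 by omega] at this

theorem wseq_mod : ∀ s, s < N → wseq (N - 1).bodd (mcyc N 0) (tmod N) s = mcyc N s
  | 0, _ => rfl
  | s + 1, h => by rw [wseq, wseq_mod s (by omega), tmod_shift N s h, tw_tw]

theorem xprod_mod : xprod (wseq (N - 1).bodd (mcyc N 0) (tmod N)) N = tmod N :=
  xprod_congr (wseq_mod N)

/-- Two elements generate the alternating group. -/
theorem closure_mod (H : Subgroup (alternatingGroup (Bool ⊕ Fin N))) (hz : mcyc N 0 ∈ H) (ht : tmod N ∈ H) :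
    H = ⊤ := by
  rw [eq_top_iff, ← closure_cycA, Subgroup.closure_le]
  rintro _ ⟨⟨s, hs⟩, rfl⟩
  rw [← mcyc_of N hs]
  induction s with
  | zero => exact hz
  | succ n ih =>
    have h2 : mcyc N (n + 1) = tw (N - 1).bodd (tmod N * mcyc N n * (tmod N)⁻¹) := by
      rw [tmod_shift N n hs, tw_tw]
    rw [h2]
    have hm := mul_mem (mul_mem ht (ih (by omega))) (inv_mem ht)
    cases (N - 1).bodd
    · exact hm
    · exact inv_mem hm

end Model

end CfsgLib.AltPres.TwoGen
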