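import Cfsg.Agent.Lib.AltPres.TwoGen.Alt

/-!
# Seven relations for alternating groups
-/

set_option autoImplicit false

namespace CfsgLib.AltPres.TwoGen

open Equiv CfsgLib.AltPres CfsgLib.SLPres

theorem conjNormal_self {α : Type*} [Fintype α] [DecidableEq α] (s h : alternatingGroup α) :
    MulAut.conjNormal (s : Perm α) h = s * h * s⁻¹ := rfl

theorem finRotate_pow_self (n : ℕ) (hn : 2 ≤ n) : finRotate n ^ n = 1 := by
  have h := (isCycle_finRotate_of_le hn).orderOf
  rw [support_finRotate_of_le hn, Finset.card_univ, Fintype.card_fin] at h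
  conv_lhs => arg 2; rw [← h]
  exact pow_orderOf_eq_one _

/-! ### The small group -/

section Small

variable (q : ℕ) [NeZero q]

/-- The element moving every three-cycle to the next. -/
def vperm : Perm (Bool ⊕ Fin q) := Equiv.sumCongr (flip true) (finRotate q)

theorem vperm_mem (hq : Even q) : vperm q ∈ alternatingGroup (Bool ⊕ Fin q) := by
  have h : 0 < q := NeZero.pos q
  rw [Perm.mem_alternatingGroup, vperm, sign_sumCongr', sign_finRotate,
    (Nat.Even.sub_odd h hq odd_one).neg_one_pow]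
  rfl

omit [NeZero q] in
theorem vperm_pow (m : ℕ) : vperm q ^ m = Equiv.sumCongr (flip true ^ m) (finRotate q ^ m) := by
  induction m with
  | zero => ext1 x; rcases x with x | x <;> simp
  | succ n ih => rw [pow_succ, ih]; ext1 x; rcases x with x | x <;> simp [vperm, pow_succ]

theorem vperm_pow_q (hq : Even q) : vperm q ^ q = 1 := by
  have h2 : 2 ≤ q := by obtain ⟨s, rfl⟩ := hq; have := NeZero.pos (s + s); omega
  have hf : flip true ^ q = 1 := by
    obtain ⟨s, rfl⟩ := hq
    rw [← two_mul, pow_mul, pow_two]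
    simp [flip]
  rw [vperm_pow, hf, finRotate_pow_self q h2]
  ext1 x
  rcases x with x | x <;> simp

theorem zv_pow (hq : 2 ≤ q) : (cyc3 (0 : Fin q) * vperm q) ^ (q + 1) = 1 := by
  set u := cyc3 (0 : Fin q) * vperm q
  let f : Fin (q + 1) → Bool ⊕ Fin q := Fin.cases (Sum.inl false) Sum.inr
  have h0 : f 0 = Sum.inl false := rfl
  have hs : ∀ j : Fin q, f j.succ = Sum.inr j := fun j => rfl
  have hrot : ∀ k : Fin (q + 1), u (f k) = f (finRotate (q + 1) k) := by
    intro k
    rw [finRotate_apply]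
    induction k using Fin.cases with
    | zero =>
      rw [zero_add, show (1 : Fin (q + 1)) = (0 : Fin q).succ from Fin.ext (by simp [Nat.mod_eq_of_lt (show 1 < q + 1 by omega)]),
        h0, hs]
      simp [u, vperm, cyc3, flip, swap_apply_def]
    | succ j =>
      rw [hs]
      by_cases hj : j.val + 1 < q
      · rw [show j.succ + 1 = (⟨j.val + 1, hj⟩ : Fin q).succ from Fin.ext (by
          simp [Fin.val_add, Nat.mod_eq_of_lt (show 1 < q + 1 by omega),
            Nat.mod_eq_of_lt (show j.val + 1 + 1 < q + 1 by omega)]), hs]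
        have hne : j + 1 ≠ (0 : Fin q) := fun h => by
          have := congrArg Fin.val h
          simp [Fin.val_add, Nat.mod_eq_of_lt (show 1 < q by omega), Nat.mod_eq_of_lt hj] at this
        have he : j + 1 = (⟨j.val + 1, hj⟩ : Fin q) := Fin.ext (by
          simp [Fin.val_add, Nat.mod_eq_of_lt (show 1 < q by omega), Nat.mod_eq_of_lt hj])
        simp only [u, vperm, Perm.mul_apply, Equiv.sumCongr_apply, Sum.map_inr, finRotate_apply, cyc3]
        rw [he] at hne ⊢
        simp [swap_apply_def, hne]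
      · have hl : j.val + 1 = q := by omega
        rw [show j.succ + 1 = 0 from Fin.ext (by
          simp [Fin.val_add, Nat.mod_eq_of_lt (show 1 < q + 1 by omega), hl]), h0]
        have he : j + 1 = (0 : Fin q) := Fin.ext (by
          simp [Fin.val_add, Nat.mod_eq_of_lt (show 1 < q by omega), hl])
        simp [u, vperm, cyc3, flip, he]
  have hfix : u (Sum.inl true) = Sum.inl true := by simp [u, vperm, cyc3, flip, swap_apply_def]
  have hm : ∀ m k, (u ^ m) (f k) = f ((finRotate (q + 1) ^ m) k) := by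
    intro m
    induction m with
    | zero => simp
    | succ n ih => intro k; rw [pow_succ', Perm.mul_apply, ih, hrot, pow_succ', Perm.mul_apply]
  ext1 x
  rcases x with (_ | _) | j
  · rw [← h0, hm, finRotate_pow_self _ (by omega)]; rfl
  · exact Perm.pow_apply_eq_self_of_apply_eq_self hfix _
  · rw [← hs j, hm, finRotate_pow_self _ (by omega)]; rfl

theorem vperm_conj (hq : Even q) (j : Fin q) :
    (⟨vperm q, vperm_mem q hq⟩ : alternatingGroup (Bool ⊕ Fin q)) * cycA j *
      (⟨vperm q, vperm_mem q hq⟩ : alternatingGroup (Bool ⊕ Fin q))⁻¹ = (cycA (j + 1))⁻¹ := by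
  have h := (conjNormal_self (⟨vperm q, vperm_mem q hq⟩ : alternatingGroup (Bool ⊕ Fin q)) (cycA j)).symm
  rw [h]
  exact (cycA_conj true _ j).trans (by rw [finRotate_apply]; rfl)

theorem closure_small (hq : Even q) :
    Subgroup.closure ({cycA (0 : Fin q), ⟨vperm q, vperm_mem q hq⟩} : Set (alternatingGroup (Bool ⊕ Fin q))) = ⊤ := by
  set H := Subgroup.closure
    ({cycA (0 : Fin q), ⟨vperm q, vperm_mem q hq⟩} : Set (alternatingGroup (Bool ⊕ Fin q)))
  rw [eq_top_iff, ← closure_cycA, Subgroup.closure_le]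
  rintro _ ⟨j, rfl⟩
  have hv : (⟨vperm q, vperm_mem q hq⟩ : alternatingGroup (Bool ⊕ Fin q)) ∈ H :=
    Subgroup.subset_closure (Set.mem_insert_of_mem _ rfl)
  have key : ∀ n : ℕ, cycA (Fin.ofNat q n) ∈ H := by
    intro n
    induction n with
    | zero => exact Subgroup.subset_closure (Set.mem_insert _ _)
    | succ n ih =>
      have e : Fin.ofNat q (n + 1) = Fin.ofNat q n + 1 := Fin.ext (by simp [Fin.val_add])
      rw [e, ← inv_inv (cycA _), ← vperm_conj q hq]
      exact inv_mem (mul_mem (mul_mem hv ih) (inv_mem hv))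
  rw [← Fin.ofNat_val_eq_self j]
  exact key j.val

end Small

/-! ### Presentations -/

theorem presents_alt {k r N : ℕ} [NeZero N] (L : List (FreeGroup (Fin k))) (Z T : FreeGroup (Fin k))
    (π : FreeGroup (Fin k) →* alternatingGroup (Bool ⊕ Fin N)) (hlen : L.length ≤ r)
    (hZ : π Z = mcyc N 0) (hT : π T = tmod N) (hrel : ∀ x ∈ L, π x = 1)
    (h : ∀ (G : Type) [Group G] (ψ : FreeGroup (Fin k) →* G), (∀ x ∈ L, ψ x = 1) →
      ∃ Φ : alternatingGroup (Bool ⊕ Fin N) →* G, ∀ i, ψ (FreeGroup.of i) ∈ Φ.range) :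
    Presents (alternatingGroup (Bool ⊕ Fin N)) k r := by
  refine ⟨L, π, hlen, ?_, hrel, fun G _ ψ hψ hL => ?_⟩
  · rw [← MonoidHom.range_eq_top]
    exact closure_mod N _ ⟨Z, hZ⟩ ⟨T, hT⟩
  · obtain ⟨Φ, hΦ⟩ := h G ψ hL
    have hs : Function.Surjective Φ := by
      rw [← MonoidHom.range_eq_top, eq_top_iff, ← MonoidHom.range_eq_top.mpr hψ, MonoidHom.range_eq_map,
        ← FreeGroup.closure_range_of, MonoidHom.map_closure, Subgroup.closure_le]
      rintro _ ⟨_, ⟨i, rfl⟩, rfl⟩
      exact hΦ i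
    exact ⟨Finite.of_surjective _ hs, Nat.card_le_card_of_surjective _ hs⟩

/-- Few points. -/
theorem alt_small (N : ℕ) [NeZero N] (hN : N ≤ 5) :
    Presents (alternatingGroup (Bool ⊕ Fin N)) 2 (N + 1) := by
  let Z : FreeGroup (Fin 2) := .of 0
  let T : FreeGroup (Fin 2) := .of 1
  let π : FreeGroup (Fin 2) →* alternatingGroup (Bool ⊕ Fin N) := FreeGroup.lift ![mcyc N 0, tmod N]
  set o := (N - 1).bodd
  have hZ : π Z = mcyc N 0 := by simp [π, Z]
  have hT : π T = tmod N := by simp [π, T]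
  refine presents_alt
    (Z * Z * Z :: T * (xprod (wseq o Z T) N)⁻¹ ::
      (List.range' 1 (N - 1)).map (fun d => Z * wseq o Z T d * (Z * wseq o Z T d))) Z T π
    (by simp only [List.length_cons, List.length_map, List.length_range']; have := NeZero.pos N; omega)
    hZ hT (fun x hx => ?_) fun G _ ψ hL => ?_
  · simp only [List.mem_cons, List.mem_map, List.mem_range'_1] at hx
    rcases hx with rfl | rfl | ⟨d, ⟨hd1, hd2⟩, rfl⟩
    · rw [map_mul, map_mul, hZ]; exact cycA_cube _
    · rw [map_mul, map_inv, map_xprod, mul_inv_eq_one, hT]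
      simp only [map_wseq, hZ, hT]
      exact (xprod_mod N).symm
    · rw [map_mul, map_mul, map_wseq, hZ, hT, wseq_mod N d (by omega)]
      have := mcyc_pair N 0 d hd1 (by omega)
      rwa [zero_add] at this
  · have h3 : ψ Z * ψ Z * ψ Z = 1 := by
      rw [← map_mul, ← map_mul]; exact hL _ (List.mem_cons_self ..)
    have ht : ψ T = xprod (wseq o (ψ Z) (ψ T)) N := by
      have := hL _ (List.mem_cons_of_mem _ (List.mem_cons_self ..))
      rw [map_mul, map_inv, map_xprod, mul_inv_eq_one] at this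
      simpa only [map_wseq] using this
    obtain ⟨Φ, hΦ⟩ := exists_hom_seq N (N - 1) (ψ Z) (ψ T) (by omega) h3 (fun d h1 h2 => by
      have := hL (Z * wseq o Z T d * (Z * wseq o Z T d)) (List.mem_cons_of_mem _ (List.mem_cons_of_mem _
        (List.mem_map.mpr ⟨d, List.mem_range'_1.mpr ⟨h1, by omega⟩, rfl⟩)))
      simpa only [map_mul, map_wseq] using this) ht
    refine ⟨Φ, fun i => ?_⟩
    fin_cases i
    · exact ⟨_, hΦ ⟨0, NeZero.pos N⟩⟩
    · show ψ T ∈ Φ.range
      rw [ht]
      exact xprod_mem _ fun s hs => ⟨_, hΦ ⟨s, hs⟩⟩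

/-- Many points. -/
theorem alt_large (N p q : ℕ) [NeZero N] [NeZero q] [Fact p.Prime] (hpq : p = q + 1) (h5 : 5 ≤ p)
    (hpN : p ≤ N) (hN : N + 1 ≤ 2 * p) {k : ℕ} (i₀ i₁ : Fin k)
    (π : alternatingGroup (Bool ⊕ Fin N) → FreeGroup (Fin k) →* alternatingGroup (Bool ⊕ Fin N))
    (hπ0 : ∀ g, π g (.of i₀) = mcyc N 0) (hπ1 : ∀ g, π g (.of i₁) = tmod N)
    (hA : ∀ g, ∃ A : FreeGroup (Fin k), π g A = g ∧ Subgroup.closure {.of i₀, .of i₁, A} = ⊤) :
    Presents (alternatingGroup (Bool ⊕ Fin N)) k 7 := by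
  classical
  have hp2 : p ≠ 2 := by omega
  have hqe : Even q := by
    have := (Fact.out : p.Prime).odd_of_ne_two hp2
    rw [hpq] at this
    exact (Nat.odd_add_one.mp this |> Nat.not_odd_iff_even.mp)
  set o := (N - 1).bodd
  obtain ⟨r, u, hre, hu, hgen, hr2, hsu⟩ := exists_even_root p h5
  let am : alternatingGroup (Bool ⊕ ZMod p) := ⟨shiftP p, shiftP_mem p hp2⟩
  let bm : alternatingGroup (Bool ⊕ ZMod p) := ⟨multP p u true, by
    rw [Perm.mem_alternatingGroup, multP, sign_sumCongr', hsu]; rfl⟩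
  let vm : alternatingGroup (Bool ⊕ Fin q) := ⟨vperm q, vperm_mem q hqe⟩
  have hval : ∀ s, s < p → ((s : ℕ) : ZMod p).val = s := fun s hs => ZMod.val_natCast_of_lt hs
  obtain ⟨ν, hν⟩ := exists_hom_of_family (fun i : ZMod p => mcyc N i.val) (fun i => cycA_cube _)
    fun i j hij => by
      have hi := ZMod.val_lt i
      have hj := ZMod.val_lt j
      rw [mcyc_of N (show i.val < N by omega), mcyc_of N (show j.val < N by omega)]
      exact cycA_pair _ _ fun e => hij (ZMod.val_injective p (congrArg Fin.val e))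
  obtain ⟨ν0, hν0⟩ := exists_hom_of_family (fun j : Fin q => cycA ((j.val : ℕ) : ZMod p)) (fun j => cycA_cube _)
    fun i j hij => cycA_pair _ _ fun e => hij (Fin.ext (by
      have := congrArg ZMod.val e
      rwa [hval _ (by omega), hval _ (by omega)] at this))
  obtain ⟨ν1, hν1⟩ := exists_hom_of_family (fun j : Fin q => tw o (cycA ((j.val + 1 : ℕ) : ZMod p)))
    (fun j => tw_cube o (cycA_cube _))
    fun i j hij => tw_pair o (cycA_pair _ _ fun e => hij (Fin.ext (by
      have := congrArg ZMod.val e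
      rw [hval _ (by omega), hval _ (by omega)] at this
      omega)))
  obtain ⟨A, hπA, hgenF⟩ := hA (ν am)
  set P := π (ν am)
  set Z : FreeGroup (Fin k) := .of i₀
  set T : FreeGroup (Fin k) := .of i₁
  have hPZ : P Z = mcyc N 0 := hπ0 _
  have hPT : P T = tmod N := hπ1 _
  have hsurj : Function.Surjective P := by
    rw [← MonoidHom.range_eq_top]
    exact closure_mod N _ ⟨Z, hPZ⟩ ⟨T, hPT⟩
  obtain ⟨B, hB⟩ := hsurj (ν bm)
  obtain ⟨wa, hwa⟩ := exists_word am
  obtain ⟨wb, hwb⟩ := exists_word bm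
  obtain ⟨wv, hwv⟩ := exists_word (ν0 vm)
  obtain ⟨wv', hwv'⟩ := exists_word (ν1 vm)
  let Wd := fun w => FreeGroup.lift (zfn p A Z) w
  let L : List (FreeGroup (Fin k)) :=
    [B * Z * B⁻¹ * (tw true Z)⁻¹, B * A * B⁻¹ * (A ^ r)⁻¹, A ^ p * (Z * Z * Z)⁻¹,
      Z * (A * Z * A⁻¹) * (Z * (A * Z * A⁻¹)),
      T * Z * T⁻¹ * (tw o (A * Z * A⁻¹) * (A⁻¹ * Wd wa))⁻¹,
      T * Wd wv * T⁻¹ * (Wd wv' * (B⁻¹ * Wd wb))⁻¹,
      T * (xprod (wseq o Z T) N)⁻¹]
  -- facts about the model
  have h0p : ((0 : ℕ) : ZMod p) = 0 := Nat.cast_zero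
  have hν00 : ν (cycA 0) = mcyc N 0 := by rw [hν, ZMod.val_zero]
  have hzf : ∀ i, zfn p (ν am) (mcyc N 0) i = ν (cycA i) := by
    intro i
    rw [zfn, ← hν00, ← map_pow, ← map_inv, ← map_mul, ← map_mul]
    congr 1
    rw [← conjNormal_self]
    have : ∀ m : ℕ, MulAut.conjNormal ((am ^ m : alternatingGroup (Bool ⊕ ZMod p)) : Perm (Bool ⊕ ZMod p))
        (cycA 0) = cycA (m : ZMod p) := by
      intro m
      induction m with
      | zero => simp
      | succ n ih => rw [pow_succ', Subgroup.coe_mul, map_mul, MulAut.mul_apply, ih]; simp [am, shiftP_cycA]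
    rw [this, ZMod.natCast_zmod_val]
  have hW : ∀ w, P (Wd w) = ν (FreeGroup.lift cycA w) := fun w => by
    rw [map_word, hπA, hPZ]
    exact word_eq ν (ν am) (mcyc N 0) (fun i => (hzf i).symm) w
  have hshiftM : ∀ g, tmod N * ν (ν0 g) * (tmod N)⁻¹ = ν (ν1 g) := fun g => by
    have : (MulAut.conj (tmod N)).toMonoidHom.comp (ν.comp ν0) = ν.comp ν1 := hom_ext_cycA fun j => by
      have hj := j.isLt
      simp only [MonoidHom.comp_apply, MulEquiv.coe_toMonoidHom, MulAut.conj_apply, hν0, hν1, hν, map_tw,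
        hval _ (show j.val < p by omega), hval _ (show j.val + 1 < p by omega)]
      exact tmod_shift N j (by omega)
    exact DFunLike.congr_fun this g
  have ha1 : am * cycA 0 * am⁻¹ = cycA 1 := by
    rw [← conjNormal_self]; exact (shiftP_cycA p 0).trans (by rw [zero_add])
  refine presents_alt L Z T P (by simp [L]) hPZ hPT (fun x hx => ?_) fun G _ ψ hL => ?_
  · simp only [L, List.mem_cons, List.not_mem_nil, or_false] at hx
    rcases hx with rfl | rfl | rfl | rfl | rfl | rfl | rfl <;>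
      simp only [map_mul, map_inv, map_pow, map_tw, map_xprod, map_wseq, hW, hwa, hwb, hwv, hwv', hB, hπA,
        hPZ, hPT, mul_inv_eq_one]
    · rw [← hν00, ← map_inv, ← map_mul, ← map_mul, ← map_tw, ← conjNormal_self]
      congr 1
      exact (multP_cycA p u true 0).trans (by rw [mul_zero])
    · rw [← map_inv, ← map_mul, ← map_mul, ← map_pow]
      congr 1
      exact Subtype.ext (multP_shift p u true r hu)
    · rw [← map_pow, show am ^ p = 1 from Subtype.ext (shiftP_pow_p p), map_one]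
      exact (cycA_cube _).symm
    · rw [← hν00, ← map_inv, ← map_mul ν am, ← map_mul ν, ha1, ← map_mul, ← map_mul,
        cycA_pair _ _ zero_ne_one, map_one]
    · rw [inv_mul_cancel, mul_one, ← hν00, ← map_inv, ← map_mul ν am, ← map_mul ν, ha1]
      have := hshiftM (cycA 0)
      rw [hν0, hν1, map_tw, Fin.val_zero, Nat.cast_zero, zero_add, Nat.cast_one] at this
      exact this
    · rw [inv_mul_cancel, mul_one]
      exact hshiftM vm
    · exact (xprod_mod N).symm
  · simp only [L, List.forall_mem_cons, List.not_mem_nil, IsEmpty.forall_iff, implies_true, and_true,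
      map_mul, map_inv, map_pow, map_tw, map_xprod, map_wseq, Wd, map_word, mul_inv_eq_one] at hL
    obtain ⟨e1, e2, e3, e4, e5, e6, e7⟩ := hL
    obtain ⟨hap, θ, hθ, Ia, Ib⟩ := exists_copy p (ψ A) (ψ Z) (ψ B) r u hu hre hgen true e1 e2 e3 e4
    set a := ψ A
    set z := ψ Z
    set t := ψ T
    simp only [word_eq θ a z hθ, hwa, hwb, hwv, hwv'] at e5 e6
    have hz0 : θ (cycA 0) = z := by rw [hθ]; simp
    have hz1 : θ (cycA 1) = a * z * a⁻¹ := by
      have : Fact (1 < p) := ⟨by omega⟩
      rw [hθ, ZMod.val_one, pow_one]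
    -- the first correction
    set f := a⁻¹ * θ am
    have hf : ∀ h, Commute f (θ h) := (by
      have := Ia.inv.mul (Impl.self (θ := θ) am)
      rw [show (shiftP p)⁻¹ * (am : Perm (Bool ⊕ ZMod p)) = 1 from inv_mul_cancel _] at this
      exact this.one_commute)
    have hzcube : z * z * z = 1 := by rw [← e3, hap]
    have hf3 : f ^ 3 = 1 := by
      have hc : Commute (tw o (a * z * a⁻¹)) f := (tw_commute o (by rw [← hz1]; exact hf _)).symm
      have h1 : (t * z * t⁻¹) ^ 3 = 1 := by
        rw [conj_pow, show z ^ 3 = 1 by rw [pow_succ, pow_two]; exact hzcube]; group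
      have h2 : tw o (a * z * a⁻¹) ^ 3 = 1 := by
        rw [← hz1, ← map_tw, ← map_pow, pow_succ, pow_two, tw_cube o (cycA_cube _), map_one]
      rwa [e5, hc.mul_pow, h2, one_mul] at h1
    have hfp : f ^ p = 1 := by
      have hc : Commute a⁻¹ (θ am) := (Ia.commute_self am (mul_inv_cancel_right _ _)).inv_left
      rw [hc.mul_pow, inv_pow, hap, inv_one, one_mul, ← map_pow,
        show am ^ p = 1 from Subtype.ext (shiftP_pow_p p), map_one]
    have hf1 : f = 1 := by
      have : f ^ Nat.gcd 3 p = 1 := pow_gcd_eq_one.mpr ⟨hf3, hfp⟩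
      rwa [(Nat.coprime_primes Nat.prime_three Fact.out).mpr (by omega), pow_one] at this
    have haθ : θ am = a := inv_mul_eq_one.mp hf1 |>.symm
    rw [hf1, mul_one, ← hz1, ← map_tw] at e5
    -- the second correction
    set e := (ψ B)⁻¹ * θ bm
    have he : ∀ h, Commute e (θ h) := (by
      have := Ib.inv.mul (Impl.self (θ := θ) bm)
      rw [show (multP p u true)⁻¹ * (bm : Perm (Bool ⊕ ZMod p)) = 1 from inv_mul_cancel _] at this
      exact this.one_commute)
    have hν00' : ν0 (cycA 0) = cycA 0 := by rw [hν0, Fin.val_zero, Nat.cast_zero]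
    have hν10 : ν1 (cycA 0) = tw o (cycA 1) := by rw [hν1, Fin.val_zero, zero_add, Nat.cast_one]
    have hvq : vm ^ q = 1 := Subtype.ext (vperm_pow_q q hqe)
    have hzvp : (cycA 0 * vm) ^ (q + 1) = 1 := Subtype.ext (zv_pow q (by omega))
    have heq : e ^ q = 1 := by
      have h1 : (t * θ (ν0 vm) * t⁻¹) ^ q = 1 := by
        rw [conj_pow, ← map_pow, ← map_pow, hvq, map_one, map_one]; group
      rwa [e6, (he _).symm.mul_pow, ← map_pow, ← map_pow, hvq, map_one, map_one, one_mul] at h1
    have heq1 : e ^ (q + 1) = 1 := by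
      have h1 : (t * θ (ν0 (cycA 0 * vm)) * t⁻¹) ^ (q + 1) = 1 := by
        rw [conj_pow, ← map_pow, ← map_pow, hzvp, map_one, map_one]; group
      have h2 : t * θ (ν0 (cycA 0 * vm)) * t⁻¹ = θ (ν1 (cycA 0 * vm)) * e := by
        calc _ = (t * θ (ν0 (cycA 0)) * t⁻¹) * (t * θ (ν0 vm) * t⁻¹) := by rw [map_mul, map_mul]; group
          _ = _ := by rw [e6, hν00', hz0, e5, ← hν10, map_mul, map_mul, mul_assoc]
      rwa [h2, (he _).symm.mul_pow, ← map_pow, ← map_pow, hzvp, map_one, map_one, one_mul] at h1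
    have he1 : e = 1 := by rwa [pow_succ, heq, one_mul] at heq1
    rw [he1, mul_one] at e6
    have hshift : ∀ g, t * θ (ν0 g) * t⁻¹ = θ (ν1 g) := fun g => by
      have : (MulAut.conj t).toMonoidHom.comp (θ.comp ν0) = θ.comp ν1 :=
        MonoidHom.eq_of_eqOn_dense (closure_small q hqe) (by
          rintro x (rfl | rfl)
          · show t * θ (ν0 (cycA 0)) * t⁻¹ = θ (ν1 (cycA 0))
            rw [hν00', hz0, hν10]; exact e5
          · exact e6)
      exact DFunLike.congr_fun this g
    have hW' : ∀ s, s < p → wseq o z t s = θ (cycA (s : ZMod p)) := by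
      intro s
      induction s with
      | zero => intro _; rw [Nat.cast_zero, hz0]; rfl
      | succ n ih =>
        intro hn
        rw [wseq, ih (by omega)]
        have := hshift (cycA ⟨n, by omega⟩)
        rw [hν0, hν1, map_tw] at this
        rw [this, tw_tw]
    obtain ⟨Φ, hΦ⟩ := exists_hom_seq N q z t (by omega) hzcube (fun d h1 h2 => by
      rw [hW' d (by omega), ← hz0, ← map_mul, ← map_mul, cycA_pair, map_one]
      intro e'
      have := congrArg ZMod.val e'
      rw [ZMod.val_zero, hval _ (by omega)] at this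
      omega) e7
    refine ⟨Φ, fun i => ?_⟩
    have hθr : ∀ h, θ h ∈ Φ.range := fun h => by
      have : θ h ∈ (⊤ : Subgroup (alternatingGroup (Bool ⊕ ZMod p))).map θ := ⟨h, trivial, rfl⟩
      rw [← closure_cycA, MonoidHom.map_closure] at this
      refine (Subgroup.closure_le _).mpr ?_ this
      rintro _ ⟨_, ⟨j, rfl⟩, rfl⟩
      have hj := ZMod.val_lt j
      refine ⟨cycA ⟨j.val, by omega⟩, ?_⟩
      rw [hΦ, hW' _ hj, ZMod.natCast_zmod_val]
    have hall : (⊤ : Subgroup (FreeGroup (Fin k))) ≤ Φ.range.comap ψ := by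
      rw [← hgenF, Subgroup.closure_le]
      rintro x (rfl | rfl | rfl)
      · show z ∈ Φ.range
        rw [← hz0]
        exact hθr _
      · show t ∈ Φ.range
        rw [e7]
        exact xprod_mem _ fun s hs => ⟨_, hΦ ⟨s, hs⟩⟩
      · show a ∈ Φ.range
        rw [← haθ]
        exact hθr _
    exact hall (Subgroup.mem_top _)

/-- The alternating groups, seven relations on two or on three generators. -/
theorem alt_presents (n : ℕ) : Presents (alternatingGroup (Fin n)) 2 7 ∧ Presents (alternatingGroup (Fin n)) 3 7 := by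
  classical
  rcases Nat.lt_or_ge n 3 with hn | hn
  · haveI : Subsingleton (alternatingGroup (Fin n)) := by
      refine Finite.card_le_one_iff_subsingleton.mp ?_
      rw [Nat.card_eq_fintype_card]
      interval_cases n <;> decide
    exact ⟨(presents_subsingleton 2).mono (by omega), (presents_subsingleton 3).mono (by omega)⟩
  obtain ⟨N, rfl⟩ : ∃ N, n = N + 2 := ⟨n - 2, by omega⟩
  have : NeZero N := ⟨by omega⟩
  have e : alternatingGroup (Bool ⊕ Fin N) ≃* alternatingGroup (Fin (N + 2)) :=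
    Equiv.altCongrHom (Fintype.equivOfCardEq (by
      rw [Fintype.card_sum, Fintype.card_bool, Fintype.card_fin, Fintype.card_fin]; omega))
  rcases Nat.lt_or_ge N 5 with hN | hN
  · have h := (alt_small N (by omega)).transport e
    exact ⟨h.mono (by omega), h.addGen.mono (by omega)⟩
  obtain ⟨p, hp, hlo, hhi⟩ : ∃ p, p.Prime ∧ N / 2 < p ∧ p ≤ N ∧ 5 ≤ p := by
    rcases Nat.lt_or_ge N 6 with h | h
    · exact ⟨5, Nat.prime_five, by omega, by omega, le_rfl⟩
    · obtain ⟨p, hp, hlo, hhi⟩ := Nat.exists_prime_lt_and_le_two_mul (N / 2) (by omega)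
      refine ⟨p, hp, hlo, by omega, ?_⟩
      rcases Nat.lt_or_ge p 5 with h' | h'
      · exfalso
        have : p = 4 := by omega
        exact absurd (this ▸ hp) (by decide)
      · exact h'
  obtain ⟨q, rfl⟩ : ∃ q, p = q + 1 := ⟨p - 1, by omega⟩
  have : Fact (q + 1).Prime := ⟨hp⟩
  have : NeZero q := ⟨by omega⟩
  refine ⟨(alt_large N (q + 1) q rfl hhi.2 hhi.1 (by omega) (0 : Fin 2) 1
    (fun _ => FreeGroup.lift ![mcyc N 0, tmod N]) (fun _ => by simp) (fun _ => by simp) fun g => ?_).transport e,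
    (alt_large N (q + 1) q rfl hhi.2 hhi.1 (by omega) (0 : Fin 3) 1
    (fun g => FreeGroup.lift ![mcyc N 0, tmod N, g]) (fun _ => by simp) (fun _ => by simp) fun g =>
      ⟨.of 2, by simp, ?_⟩).transport e⟩
  · have hs : Function.Surjective (FreeGroup.lift ![mcyc N 0, tmod N]) := by
      rw [← MonoidHom.range_eq_top]
      exact closure_mod N _ ⟨.of 0, by simp⟩ ⟨.of 1, by simp⟩
    obtain ⟨A, hA⟩ := hs g
    refine ⟨A, hA, ?_⟩
    rw [eq_top_iff, ← FreeGroup.closure_range_of]
    exact Subgroup.closure_mono (by rintro _ ⟨i, rfl⟩; fin_cases i <;> simp)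
  · rw [eq_top_iff, ← FreeGroup.closure_range_of]
    exact Subgroup.closure_mono (by rintro _ ⟨i, rfl⟩; fin_cases i <;> simp)

end CfsgLib.AltPres.TwoGen
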