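import Cfsg.Agent.Lib.AltPres.Glue

/-!
# A copy of `A_{p+2}` from four relations
-/

set_option autoImplicit false

namespace CfsgLib.AltPres.TwoGen

open Equiv CfsgLib.AltPres

/-! ### Generalities -/

theorem tw_tw {G : Type*} [Group G] (o : Bool) (x : G) : tw o (tw o x) = x := by
  cases o <;> simp [tw]

theorem tw_commute {G : Type*} [Group G] (o : Bool) {g x : G} (h : Commute g x) : Commute g (tw o x) := by
  cases o
  · exact h
  · exact h.inv_right

theorem tw_pow {G : Type*} [Group G] (o : Bool) (x : G) (k : ℕ) : tw o x ^ k = tw o (x ^ k) := by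
  cases o <;> simp [tw]

theorem pair_tw_iff {G : Type*} [Group G] (o : Bool) (g x z : G) :
    tw o (g * x * g⁻¹) * tw o (g * z * g⁻¹) * (tw o (g * x * g⁻¹) * tw o (g * z * g⁻¹)) = 1 ↔
      x * z * (x * z) = 1 := by
  refine ⟨fun h => ?_, fun h => tw_pair o (pair_conj g h)⟩
  have h2 := pair_conj g⁻¹ (tw_pair o h)
  simp only [tw_tw] at h2
  simpa [mul_assoc] using h2

/-- Carmichael's relations define a homomorphism out of the alternating group. -/
theorem exists_hom_of_family {Ω : Type} [Fintype Ω] [DecidableEq Ω] {G : Type*} [Group G] (y : Ω → G)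
    (h3 : ∀ i, y i * y i * y i = 1) (h2 : ∀ i j, i ≠ j → y i * y j * (y i * y j) = 1) :
    ∃ θ : alternatingGroup (Bool ⊕ Ω) →* G, ∀ i, θ (cycA i) = y i := by
  classical
  let R : Set (FreeGroup Ω) :=
    Set.range (fun i => FreeGroup.of i * FreeGroup.of i * FreeGroup.of i) ∪
      {g | ∃ i j, i ≠ j ∧ g = FreeGroup.of i * FreeGroup.of j * (FreeGroup.of i * FreeGroup.of j)}
  have lift1 : ∀ {H : Type _} [Group H] (u : Ω → H), (∀ i, u i * u i * u i = 1) →
      (∀ i j, i ≠ j → u i * u j * (u i * u j) = 1) → ∀ r ∈ R, FreeGroup.lift u r = 1 := by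
    intro H _ u hu3 hu2 r hr
    rcases hr with ⟨i, rfl⟩ | ⟨i, j, hij, rfl⟩
    · simpa using hu3 i
    · simpa using hu2 i j hij
  have hy : ∀ r ∈ R, FreeGroup.lift y r = 1 := by
    intro r hr
    rcases hr with ⟨i, rfl⟩ | ⟨i, j, hij, rfl⟩
    · simpa using h3 i
    · simpa using h2 i j hij
  have hc := lift1 (cycA (Ω := Ω)) cycA_cube cycA_pair
  let f : PresentedGroup R →* alternatingGroup (Bool ⊕ Ω) := PresentedGroup.toGroup hc
  have hfs : Function.Surjective f := by
    rw [← MonoidHom.range_eq_top, eq_top_iff, ← closure_cycA, Subgroup.closure_le]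
    rintro _ ⟨i, rfl⟩
    exact ⟨PresentedGroup.of i, PresentedGroup.toGroup.of hc⟩
  obtain ⟨hfin, hle⟩ := card_of_family (fun i => PresentedGroup.of (rels := R) i)
    (fun i => by
      have := PresentedGroup.one_of_mem (rels := R)
        (show FreeGroup.of i * FreeGroup.of i * FreeGroup.of i ∈ R from Or.inl ⟨i, rfl⟩)
      simpa [PresentedGroup.of] using this)
    (fun i j hij => by
      have := PresentedGroup.one_of_mem (rels := R)
        (show FreeGroup.of i * FreeGroup.of j * (FreeGroup.of i * FreeGroup.of j) ∈ R from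
          Or.inr ⟨i, j, hij, rfl⟩)
      simpa [PresentedGroup.of] using this)
    (PresentedGroup.closure_range_of R)
  let e := MulEquiv.ofBijective f ((Nat.bijective_iff_surjective_and_card _).mpr
    ⟨hfs, le_antisymm hle (Nat.card_le_card_of_surjective f hfs)⟩)
  refine ⟨(PresentedGroup.toGroup hy).comp e.symm.toMonoidHom, fun i => ?_⟩
  have : e.symm (cycA i) = PresentedGroup.of i := by
    rw [MulEquiv.symm_apply_eq]; exact (PresentedGroup.toGroup.of hc).symm
  simp only [MonoidHom.comp_apply, MulEquiv.coe_toMonoidHom, this]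
  exact PresentedGroup.toGroup.of hy

/-- Homomorphisms out of the alternating group agree when they agree on the three-cycles. -/
theorem hom_ext_cycA {Ω : Type*} [Fintype Ω] [DecidableEq Ω] {G : Type*} [Group G]
    {f g : alternatingGroup (Bool ⊕ Ω) →* G} (h : ∀ i, f (cycA i) = g (cycA i)) : f = g :=
  MonoidHom.eq_of_eqOn_dense closure_cycA (by rintro _ ⟨i, rfl⟩; exact h i)

/-! ### Implementing a permutation -/

section Impl

variable {α : Type*} [Fintype α] [DecidableEq α] {G : Type*} [Group G]

/-- `g` acts on the image of `θ` as `σ` does. -/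
def Impl (θ : alternatingGroup α →* G) (g : G) (σ : Perm α) : Prop :=
  ∀ h, g * θ h * g⁻¹ = θ (MulAut.conjNormal σ h)

variable {θ : alternatingGroup α →* G}

theorem Impl.mul {g g' : G} {σ σ' : Perm α} (h : Impl θ g σ) (h' : Impl θ g' σ') :
    Impl θ (g * g') (σ * σ') := by
  intro k
  rw [map_mul, MulAut.mul_apply, ← h, ← h']
  group

theorem Impl.self (s : alternatingGroup α) : Impl θ (θ s) (s : Perm α) := by
  intro k
  rw [← map_inv, ← map_mul, ← map_mul]
  congr 1

theorem Impl.inv {g : G} {σ : Perm α} (h : Impl θ g σ) : Impl θ g⁻¹ σ⁻¹ := by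
  intro k
  have := h (MulAut.conjNormal σ⁻¹ k)
  rw [← MulAut.mul_apply, ← map_mul, mul_inv_cancel, map_one, MulAut.one_apply] at this
  rw [← this]
  group

theorem Impl.one_commute {g : G} (h : Impl θ g 1) (k : alternatingGroup α) : Commute g (θ k) := by
  have := h k
  rw [map_one, MulAut.one_apply, mul_inv_eq_iff_eq_mul] at this
  exact this

/-- `g` commutes with the image of what it implements. -/
theorem Impl.commute_self {g : G} {σ : Perm α} (h : Impl θ g σ) (k : alternatingGroup α)
    (hk : σ * (k : Perm α) * σ⁻¹ = k) : Commute g (θ k) := by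
  have e : MulAut.conjNormal σ k = k := Subtype.ext (by rw [MulAut.conjNormal_apply]; exact hk)
  have := h k
  rw [e, mul_inv_eq_iff_eq_mul] at this
  exact this

end Impl

/-! ### Model permutations -/

/-- The transposition of the two extra points, or nothing. -/
def flip (o : Bool) : Perm Bool := if o then swap false true else 1

theorem cycA_conj {Ω : Type*} [Fintype Ω] [DecidableEq Ω] (o : Bool) (σ : Perm Ω) (i : Ω) :
    MulAut.conjNormal (Equiv.sumCongr (flip o) σ) (cycA i) = tw o (cycA (σ i)) := by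
  apply Subtype.ext
  rw [MulAut.conjNormal_apply]
  cases o
  · exact cyc3_conj _ (fun b => by simp [flip]) i (σ i) (by simp)
  · exact cyc3_conj_swap _ (fun b => by cases b <;> simp [flip]) i (σ i) (by simp)

theorem sign_sumCongr' {Ω : Type*} [Fintype Ω] [DecidableEq Ω] (o : Bool) (σ : Perm Ω) :
    Perm.sign (Equiv.sumCongr (flip o) σ) = (if o then -1 else 1) * Perm.sign σ := by
  have h : Equiv.sumCongr (flip o) σ = Perm.sumCongr (flip o) σ := rfl
  rw [h, Perm.sign_sumCongr]
  cases o <;> simp [flip]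

variable (p : ℕ) [Fact p.Prime]

/-- Translation by one. -/
def shiftP : Perm (Bool ⊕ ZMod p) := Equiv.sumCongr (flip false) (Equiv.addRight 1)

/-- Multiplication by a unit, possibly exchanging the extra points. -/
def multP (u : (ZMod p)ˣ) (o : Bool) : Perm (Bool ⊕ ZMod p) := Equiv.sumCongr (flip o) (Units.mulLeft u)

theorem shiftP_cycA (i : ZMod p) : MulAut.conjNormal (shiftP p) (cycA i) = cycA (i + 1) :=
  cycA_conj false _ i

theorem multP_cycA (u : (ZMod p)ˣ) (o : Bool) (i : ZMod p) :
    MulAut.conjNormal (multP p u o) (cycA i) = tw o (cycA ((u : ZMod p) * i)) :=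
  cycA_conj o _ i

theorem shift_pow (k : ℕ) (i : ZMod p) : ((Equiv.addRight (1 : ZMod p)) ^ k) i = i + k := by
  induction k with
  | zero => simp
  | succ n ih => rw [pow_succ', Perm.mul_apply, ih]; simp [add_assoc]

theorem shiftP_pow (k : ℕ) :
    shiftP p ^ k = Equiv.sumCongr (flip false) (Equiv.addRight (1 : ZMod p) ^ k) := by
  induction k with
  | zero => ext1 x; rcases x with x | x <;> simp [flip]
  | succ n ih => rw [pow_succ, ih]; ext1 x; rcases x with x | x <;> simp [shiftP, flip, pow_succ]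

theorem shiftP_pow_p : shiftP p ^ p = 1 := by
  rw [shiftP_pow]
  ext1 x
  rcases x with x | x
  · simp [flip]
  · simp [shift_pow]

theorem shiftP_mem (hp : p ≠ 2) : shiftP p ∈ alternatingGroup (Bool ⊕ ZMod p) := by
  rw [Perm.mem_alternatingGroup]
  have h2 : Perm.sign (shiftP p) ^ p = 1 := by rw [← map_pow, shiftP_pow_p, map_one]
  rcases Int.units_eq_one_or (Perm.sign (shiftP p)) with e | e
  · exact e
  · rw [e, ((Fact.out : p.Prime).odd_of_ne_two hp).neg_one_pow] at h2
    exact absurd h2 (by decide)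

theorem multP_shift (u : (ZMod p)ˣ) (o : Bool) (r : ℕ) (hu : (u : ZMod p) = r) :
    multP p u o * shiftP p * (multP p u o)⁻¹ = shiftP p ^ r := by
  rw [mul_inv_eq_iff_eq_mul]
  rw [shiftP_pow]
  ext1 x
  rcases x with x | x
  · simp [multP, shiftP, flip]
  · simp [multP, shiftP, shift_pow, hu, mul_add]

/-- An even natural number whose class generates the units. -/
theorem exists_even_root (hp : 5 ≤ p) :
    ∃ (r : ℕ) (u : (ZMod p)ˣ), Even r ∧ (u : ZMod p) = r ∧
      (∀ j : ZMod p, j ≠ 0 → ∃ k : ℕ, (r : ZMod p) ^ k = j) ∧ (r : ZMod p) ^ 2 ≠ 1 ∧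
      Perm.sign (Units.mulLeft u) = -1 := by
  obtain ⟨g, hg⟩ := IsCyclic.exists_generator (α := (ZMod p)ˣ)
  have hodd : Odd p := (Fact.out : p.Prime).odd_of_ne_two (by omega)
  obtain ⟨r, hre, hr⟩ : ∃ r : ℕ, Even r ∧ (r : ZMod p) = (g : ZMod p) := by
    rcases Nat.even_or_odd (g : ZMod p).val with h | h
    · exact ⟨_, h, ZMod.natCast_zmod_val _⟩
    · exact ⟨(g : ZMod p).val + p, h.add_odd hodd, by simp⟩
  have hord : orderOf g = p - 1 := by
    rw [orderOf_eq_card_of_forall_mem_zpowers hg, Nat.card_eq_fintype_card, ZMod.card_units]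
  have hgk : ∀ j : ZMod p, j ≠ 0 → ∃ k : ℕ, (g : ZMod p) ^ k = j := fun j hj => by
    have := hg (Units.mk0 j hj)
    rw [mem_zpowers_iff_mem_range_orderOf, Finset.mem_image] at this
    obtain ⟨k, -, hk⟩ := this
    refine ⟨k, ?_⟩
    have := congrArg (fun u : (ZMod p)ˣ => (u : ZMod p)) hk
    simpa using this
  have h1 : (g : ZMod p) ≠ 1 := fun h => by
    have : g = 1 := Units.ext h
    rw [this, orderOf_one] at hord
    omega
  refine ⟨r, g, hre, hr.symm, fun j hj => by rw [hr]; exact hgk j hj, fun h => ?_, ?_⟩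
  · rw [hr] at h
    have : g ^ 2 = 1 := Units.ext (by simpa using h)
    have := orderOf_dvd_of_pow_eq_one this
    rw [hord] at this
    have := Nat.le_of_dvd (by omega) this
    omega
  · have hfix : ∀ y : ZMod p, (g : ZMod p) * y ≠ y ↔ y ≠ 0 := fun y => by
      refine not_congr ⟨fun h => ?_, fun h => by rw [h, mul_zero]⟩
      by_contra hy
      exact h1 (mul_right_cancel₀ hy (h.trans (one_mul y).symm))
    have hpow : ∀ (k : ℕ) (y : ZMod p), ((Units.mulLeft g) ^ k) y = (g : ZMod p) ^ k * y := by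
      intro k
      induction k with
      | zero => simp
      | succ n ih => intro y; rw [pow_succ', Perm.mul_apply, ih]; simp [pow_succ', mul_assoc]
    have hcyc : (Units.mulLeft g : Perm (ZMod p)).IsCycle := by
      refine ⟨1, by simpa using h1, fun y hy => ?_⟩
      obtain ⟨k, hk⟩ := hgk y ((hfix y).mp (by simpa using hy))
      exact ⟨k, by rw [zpow_natCast, hpow, hk, mul_one]⟩
    have hsupp : (Units.mulLeft g : Perm (ZMod p)).support = Finset.univ.erase 0 := by
      ext y; simp [Perm.mem_support, hfix]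
    rw [hcyc.sign, hsupp, Finset.card_erase_of_mem (Finset.mem_univ _), Finset.card_univ, ZMod.card,
      (Nat.Odd.sub_odd hodd odd_one).neg_one_pow]

/-! ### The copy -/

theorem exists_copy {G : Type*} [Group G] (a z b : G) (r : ℕ) (u : (ZMod p)ˣ)
    (hu : (u : ZMod p) = r) (hr : Even r)
    (hgen : ∀ j : ZMod p, j ≠ 0 → ∃ k : ℕ, (r : ZMod p) ^ k = j) (o : Bool)
    (h1 : b * z * b⁻¹ = tw o z) (h2 : b * a * b⁻¹ = a ^ r) (h3 : a ^ p = z * z * z)
    (h4 : z * (a * z * a⁻¹) * (z * (a * z * a⁻¹)) = 1) :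
    a ^ p = 1 ∧ ∃ θ : alternatingGroup (Bool ⊕ ZMod p) →* G,
      (∀ i, θ (cycA i) = a ^ i.val * z * (a ^ i.val)⁻¹) ∧
      Impl θ a (shiftP p) ∧ Impl θ b (multP p u o) := by
  set w := a ^ p with hw
  have hzw : Commute w z := by rw [h3]; exact ((Commute.refl z).mul_left (Commute.refl z)).mul_left (Commute.refl z)
  have haw : Commute w a := Commute.pow_self a p
  set zf : ZMod p → G := fun i => a ^ i.val * z * (a ^ i.val)⁻¹ with hzf
  have hnat : ∀ k : ℕ, a ^ k * z * (a ^ k)⁻¹ = zf (k : ZMod p) := by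
    intro k
    simp only [hzf, ZMod.val_natCast]
    conv_lhs => rw [← Nat.mod_add_div k p, pow_add, pow_mul, ← hw]
    rw [mul_assoc (a ^ (k % p)), (hzw.pow_left _).eq]
    group
  have hashift : ∀ i, a * zf i * a⁻¹ = zf (i + 1) := fun i => by
    have := hnat (i.val + 1)
    rw [Nat.cast_add, ZMod.natCast_zmod_val, Nat.cast_one] at this
    rw [← this, pow_succ']
    simp only [hzf]
    group
  have hbshift : ∀ i, b * zf i * b⁻¹ = tw o (zf ((r : ZMod p) * i)) := fun i => by
    have := hnat (r * i.val)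
    rw [Nat.cast_mul, ZMod.natCast_zmod_val] at this
    rw [← this, ← tw_conj o, pow_mul, ← h2, conj_pow, ← h1]
    simp only [hzf]
    group
  have hz0 : zf 0 = z := by simp [hzf]
  have hcube : ∀ i, zf i * zf i * zf i = w := fun i => by
    have hc : Commute (a ^ i.val) w := (haw.pow_right _).symm
    calc zf i * zf i * zf i = a ^ i.val * (z * z * z) * (a ^ i.val)⁻¹ := by simp only [hzf]; group
      _ = w := by rw [← h3, hc.eq]; group
  -- all pairs
  have hpair0 : ∀ j : ZMod p, j ≠ 0 → zf 0 * zf j * (zf 0 * zf j) = 1 := by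
    have key : ∀ k : ℕ, zf 0 * zf ((r : ZMod p) ^ k) * (zf 0 * zf ((r : ZMod p) ^ k)) = 1 := by
      intro k
      induction k with
      | zero =>
        rw [pow_zero, hz0, show zf 1 = a * z * a⁻¹ by rw [← zero_add (1 : ZMod p), ← hashift, hz0]]
        exact h4
      | succ n ih =>
        have e := pair_conj b ih
        rw [hbshift, hbshift, mul_zero, ← pow_succ'] at e
        have := tw_pair o e
        simpa only [tw_tw] using this
    intro j hj
    obtain ⟨k, rfl⟩ := hgen j hj
    exact key k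
  have hpair : ∀ i j, i ≠ j → zf i * zf j * (zf i * zf j) = 1 := by
    have key : ∀ (k : ℕ) (d : ZMod p), d ≠ 0 →
        zf (k : ZMod p) * zf (k + d) * (zf (k : ZMod p) * zf (k + d)) = 1 := by
      intro k
      induction k with
      | zero => intro d hd; simpa using hpair0 d hd
      | succ n ih =>
        intro d hd
        have e := pair_conj a (ih d hd)
        rw [hashift, hashift, add_right_comm] at e
        simpa using e
    intro i j hij
    have := key i.val (j - i) (sub_ne_zero.mpr (Ne.symm hij))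
    rwa [ZMod.natCast_zmod_val, add_sub_cancel] at this
  -- `w = 1`
  have htw : tw o w = w ^ r := by
    have e1 : b * w * b⁻¹ = tw o w := by
      rw [h3, show b * (z * z * z) * b⁻¹ = (b * z * b⁻¹) * (b * z * b⁻¹) * (b * z * b⁻¹) by group, h1]
      cases o <;> simp [tw, mul_assoc]
    rw [← e1, hw, ← conj_pow, h2, ← pow_mul, ← pow_mul, Nat.mul_comm]
  have hw8 : w ^ 8 = 1 := by
    have hpz : ∀ i j : ZMod p, i ≠ j → ((zf j)⁻¹ * zf i) * ((zf j)⁻¹ * zf i) * ((zf j)⁻¹ * zf i) = w ^ 4 := by
      intro i j hij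
      have e1 : (zf j)⁻¹ = zf i * zf j * zf i := by
        have := hpair i j hij
        rw [← mul_assoc] at this
        exact (eq_inv_of_mul_eq_one_left this).symm
      have ci : Commute w (zf i) := by
        rw [← hcube i]; exact ((Commute.refl _).mul_left (Commute.refl _)).mul_left (Commute.refl _)
      have cj : Commute w (zf j) := by
        rw [← hcube j]; exact ((Commute.refl _).mul_left (Commute.refl _)).mul_left (Commute.refl _)
      rw [e1]
      calc zf i * zf j * zf i * zf i * (zf i * zf j * zf i * zf i) * (zf i * zf j * zf i * zf i)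
          = zf i * zf j * (zf i * zf i * zf i) * zf j * (zf i * zf i * zf i) * zf j * zf i * zf i := by
            simp only [mul_assoc]
        _ = zf i * zf j * w * zf j * w * zf j * zf i * zf i := by rw [hcube]
        _ = zf i * zf j * zf j * zf j * zf i * zf i * (w * w) := by
            simp only [mul_assoc]
            simp only [ci.eq, ci.left_comm, cj.left_comm]
        _ = zf i * (zf j * zf j * zf j) * zf i * zf i * (w * w) := by simp only [mul_assoc]
        _ = w ^ 4 := by
            rw [hcube, ← ci.eq, show w * zf i * zf i * zf i * (w * w) = w * (zf i * zf i * zf i) * (w * w) by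
              simp only [mul_assoc], hcube]
            simp only [pow_succ, pow_zero, one_mul, mul_assoc]
    have h01 : (0 : ZMod p) ≠ 1 := zero_ne_one
    have e1 := hpz 0 1 h01
    have e2 := hpz 1 0 h01.symm
    calc w ^ 8 = w ^ 4 * w ^ 4 := by group
      _ = 1 := by
          nth_rewrite 1 [← e1]
          rw [← e2]
          group
  have hw1 : w = 1 := by
    obtain ⟨s, hs⟩ := hr
    have h8 : ∀ e, w ^ (8 * e) = 1 := fun e => by rw [pow_mul, hw8, one_pow]
    have a4 : tw o (w ^ 4) = 1 := by
      rw [← tw_pow, htw, ← pow_mul, hs, show (s + s) * 4 = 8 * s by ring, h8]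
    have b4 : w ^ 4 = 1 := by rw [← tw_tw o (w ^ 4), a4]; cases o <;> simp [tw]
    have a2 : tw o (w ^ 2) = 1 := by
      rw [← tw_pow, htw, ← pow_mul, hs, show (s + s) * 2 = 4 * s by ring, pow_mul, b4, one_pow]
    have b2 : w ^ 2 = 1 := by rw [← tw_tw o (w ^ 2), a2]; cases o <;> simp [tw]
    have a1 : tw o w = 1 := by rw [htw, hs, ← two_mul, pow_mul, b2, one_pow]
    rw [← tw_tw o w, a1]
    cases o <;> simp [tw]
  refine ⟨hw1, ?_⟩
  obtain ⟨θ, hθ⟩ := exists_hom_of_family zf (fun i => (hcube i).trans hw1) hpair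
  refine ⟨θ, hθ, fun h => ?_, fun h => ?_⟩
  · have : (MulAut.conj a).toMonoidHom.comp θ = θ.comp (MulAut.conjNormal (shiftP p)).toMonoidHom :=
      hom_ext_cycA fun i => by simp [shiftP_cycA, hθ, hashift]
    exact DFunLike.congr_fun this h
  · have : (MulAut.conj b).toMonoidHom.comp θ = θ.comp (MulAut.conjNormal (multP p u o)).toMonoidHom :=
      hom_ext_cycA fun i => by simp [multP_cycA, map_tw, hθ, hbshift, hu]
    exact DFunLike.congr_fun this h

/-- The central parts die. -/
theorem eq_one_of_twist {G : Type*} [Group G] (α β : G) (r : ℕ) (hr : (r : ZMod p) ^ 2 ≠ 1)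
    (hα : α ^ p = 1) (hβ : β⁻¹ * α * β = α ^ (r * r)) (hαβ : (β * α) ^ p = 1) : α = 1 := by
  have hconj : ∀ k, (β ^ k)⁻¹ * α * β ^ k = α ^ ((r * r) ^ k) := by
    intro k
    induction k with
    | zero => simp
    | succ n ih =>
      rw [pow_succ' (r * r), pow_mul, ← hβ, pow_succ]
      have := conj_pow (a := β⁻¹) (b := α) (i := (r * r) ^ n)
      rw [inv_inv] at this
      rw [this, ← ih]
      group
  have hpow : ∀ k, ∃ s : ℕ, (β * α) ^ k = β ^ k * α ^ s := by
    intro k
    induction k with
    | zero => exact ⟨0, by simp⟩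
    | succ n ih =>
      obtain ⟨s, hs⟩ := ih
      refine ⟨r * r * s + 1, ?_⟩
      have := conj_pow (a := β⁻¹) (b := α) (i := s)
      rw [inv_inv, hβ, ← pow_mul] at this
      rw [pow_succ, hs, pow_succ β, pow_succ α, this]
      group
  obtain ⟨s, hs⟩ := hpow p
  rw [hαβ] at hs
  have hc : Commute (β ^ p) α := by
    rw [eq_inv_of_mul_eq_one_left hs.symm]
    exact ((Commute.refl α).pow_left s).inv_left
  have e : α ^ ((r * r) ^ p) = α ^ 1 := by
    rw [← hconj, pow_one, mul_assoc, ← hc.eq, inv_mul_cancel_left]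
  by_contra hne
  have ho : orderOf α = p := orderOf_eq_prime hα hne
  rw [pow_eq_pow_iff_modEq, ho, ← ZMod.natCast_eq_natCast_iff, Nat.cast_pow, ZMod.pow_card] at e
  exact hr (by rw [pow_two]; simpa using e)

end CfsgLib.AltPres.TwoGen
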