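import Cfsg.Agent.Lib.AltPres.TwoGen.AltMain
import Cfsg.Agent.Lib.Coxeter.TypeA
import Cfsg.Agent.Lib.AltPres.Moore

/-!
# Symmetric groups: the Coxeter relations from a long product
-/

set_option autoImplicit false

namespace CfsgLib.AltPres.TwoGen

open Equiv CfsgLib.AltPres CfsgLib.SLPres

/-- Translates of `x` under powers of `t`. -/
def xs {G : Type*} [Group G] (x t : G) (i : ℕ) : G := t ^ i * x * (t ^ i)⁻¹

theorem map_xs {G H : Type*} [Group G] [Group H] (f : G →* H) (x t : G) (i : ℕ) :
    f (xs x t i) = xs (f x) (f t) i := by simp [xs]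

theorem xs_succ {G : Type*} [Group G] (x t : G) (i : ℕ) : xs x t (i + 1) = t * xs x t i * t⁻¹ := by
  simp only [xs, pow_succ']; group

theorem xs_add {G : Type*} [Group G] (x t : G) (i d : ℕ) : xs x t (i + d) = t ^ i * xs x t d * (t ^ i)⁻¹ := by
  simp only [xs, pow_add]; group

/-- The product of the translates. -/
def sprod {G : Type*} [Group G] (x t : G) (n : ℕ) : G := ((List.range (n - 1)).map (xs x t)).prod

theorem map_sprod {G H : Type*} [Group G] [Group H] (f : G →* H) (x t : G) (n : ℕ) :
    f (sprod x t n) = sprod (f x) (f t) n := by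
  simp only [sprod, map_list_prod, List.map_map]
  congr 1
  exact List.map_congr_left fun j _ => map_xs f x t j

theorem braid_of_cube {G : Type*} [Group G] {a b : G} (ha : a * a = 1) (hb : b * b = 1)
    (h : a * b * (a * b) * (a * b) = 1) : a * b * a = b * a * b := by
  have hai : a⁻¹ = a := inv_eq_of_mul_eq_one_left ha
  have hbi : b⁻¹ = b := inv_eq_of_mul_eq_one_left hb
  have e : a * b * a = (b * a * b)⁻¹ := eq_inv_of_mul_eq_one_left (by simpa [mul_assoc] using h)
  rw [e, mul_inv_rev, mul_inv_rev, hai, hbi, mul_assoc]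

/-- Long products give all far commutations. -/
theorem exists_hom_shift {G : Type*} [Group G] (m D : ℕ) (x t : G) (hD : m + 1 ≤ 2 * D + 2) (hx : x * x = 1)
    (hb : x * xs x t 1 * x = xs x t 1 * x * xs x t 1)
    (hc : ∀ d, 2 ≤ d → d ≤ D → Commute x (xs x t d)) (ht : t = sprod x t (m + 1)) :
    ∃ Φ : Perm (Fin (m + 1)) →* G, ∀ i < m, xs x t i ∈ Φ.range := by
  set X := xs x t with hX
  have hconj : ∀ i d, X (i + d) = MulAut.conj (t ^ i) (X d) := fun i d => xs_add x t i d
  have h0 : X 0 = x := by simp [hX, xs]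
  have hsq : ∀ i, X i * X i = 1 := fun i => by
    rw [← Nat.add_zero i, hconj, ← map_mul, h0, hx, map_one]
  have hbr : ∀ i, X i * X (i + 1) * X i = X (i + 1) * X i * X (i + 1) := fun i => by
    have e := congrArg (MulAut.conj (t ^ i)) hb
    simp only [map_mul] at e
    rw [← h0, ← hconj, ← hconj, Nat.add_zero] at e
    exact e
  have hshift : ∀ i d, Commute x (X d) ↔ Commute (X i) (X (i + d)) := fun i d => by
    rw [← Nat.add_zero i, hconj i 0, Nat.add_zero, hconj i d, h0]
    exact ⟨fun h => h.map (MulAut.conj (t ^ i)), fun h => by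
      have := h.map (MulAut.conj (t ^ i)).symm
      simpa only [MulEquiv.symm_apply_apply] using this⟩
  have hall : ∀ d, 2 ≤ d → d + 1 ≤ m → Commute x (X d) := by
    intro d
    induction d using Nat.strong_induction_on with
    | _ d ih =>
      intro h2 hdm
      by_cases hle : d ≤ D
      · exact hc d h2 hle
      obtain ⟨i, k, hi, hk⟩ : ∃ i k, i + d + 1 = m ∧ k + 2 = d :=
        ⟨m - 1 - d, d - 2, by omega, by omega⟩
      have hfar : ∀ a b, a + 2 ≤ b → b - a < d → Commute (X a) (X b) := fun a b h1 hlt => by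
        have := (hshift a (b - a)).mp (ih (b - a) hlt (by omega) (by omega))
        rwa [Nat.add_sub_cancel' (by omega : a ≤ b)] at this
      set A := ((List.range' 0 i).map X).prod
      set B := ((List.range' (i + 2) k).map X).prod
      have hA : Commute (X (i + 1)) A := Commute.list_prod_right _ _ fun g hg => by
        obtain ⟨j, hj, rfl⟩ := List.mem_map.mp hg
        rw [List.mem_range'_1] at hj
        exact (hfar j (i + 1) (by omega) (by omega)).symm
      have hB : Commute (X i) B := Commute.list_prod_right _ _ fun g hg => by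
        obtain ⟨j, hj, rfl⟩ := List.mem_map.mp hg
        rw [List.mem_range'_1] at hj
        exact hfar i j (by omega) (by omega)
      have hlist : List.range m = List.range' 0 i ++ [i, i + 1] ++ List.range' (i + 2) k ++ [i + d] := by
        rw [show m = i + d + 1 by omega, List.range_succ, List.range_eq_range']
        congr 1
        rw [show i + d = i + (2 + k) by omega, ← List.range'_append_1, ← List.range'_append_1]
        simp [List.range'_succ]
      have htp : t = A * (X i * X (i + 1)) * B * X (i + d) := by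
        rw [ht, sprod, Nat.add_sub_cancel, hlist]
        simp [A, B, hX, mul_assoc]
      set L := X (i + d)
      have e1 : t * X i * t⁻¹ = X (i + 1) := (xs_succ x t i).symm
      have e2 : A * (X i * X (i + 1)) * X i * (A * (X i * X (i + 1)))⁻¹ = X (i + 1) := by
        calc _ = A * (X i * X (i + 1) * X i) * (X (i + 1))⁻¹ * (X i)⁻¹ * A⁻¹ := by group
          _ = A * X (i + 1) * A⁻¹ := by rw [hbr]; group
          _ = _ := by rw [← hA.eq]; group
      have e3 : L * X i * L⁻¹ = X i := by
        have : A * (X i * X (i + 1)) * (B * (L * X i * L⁻¹) * B⁻¹) * (A * (X i * X (i + 1)))⁻¹ =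
            A * (X i * X (i + 1)) * X i * (A * (X i * X (i + 1)))⁻¹ := by
          rw [e2]
          calc _ = t * X i * t⁻¹ := by rw [htp]; group
            _ = _ := e1
        have h' : B * (L * X i * L⁻¹) * B⁻¹ = B * X i * B⁻¹ := by
          rw [mul_left_cancel (mul_right_cancel this), ← hB.eq]; group
        exact mul_left_cancel (mul_right_cancel h')
      exact (hshift i d).mpr (mul_inv_eq_iff_eq_mul.mp e3).symm
  -- the Coxeter group
  obtain ⟨cs, hcs⟩ := CfsgLib.CoxeterA.exists_system m
  have hl : (CoxeterMatrix.A m).IsLiftable fun i : Fin m => X i := by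
    intro i j
    rw [CfsgLib.CoxeterA.A_apply]
    split_ifs with h1 h2
    · subst h1; rw [pow_one]; exact hsq _
    · have key : ∀ a, X a * X (a + 1) * (X a * X (a + 1)) * (X a * X (a + 1)) = 1 := fun a => by
        calc _ = (X a * X (a + 1) * X a) * (X (a + 1) * X a * X (a + 1)) := by group
          _ = 1 := by
            rw [← hbr a]
            calc _ = X a * X (a + 1) * (X a * X a) * X (a + 1) * X a := by group
              _ = 1 := by rw [hsq, mul_one, mul_assoc (X a), hsq, mul_one, hsq]
      beta_reduce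
      rw [pow_succ, sq]
      rcases h2 with h2 | h2
      · rw [← h2]
        calc _ = (X j)⁻¹ * (X j * X (j + 1) * (X j * X (j + 1)) * (X j * X (j + 1))) * X j := by group
          _ = 1 := by rw [key]; group
      · rw [← h2]; exact key i
    · have hij : (i : ℕ) ≠ j := fun e => h1 (Fin.ext e)
      have hcm : Commute (X i) (X j) := by
        rcases lt_or_gt_of_ne hij with h | h
        · have := (hshift i (j - i)).mp (hall _ (by omega) (by omega))
          rwa [Nat.add_sub_cancel' h.le] at this
        · have := (hshift j (i - j)).mp (hall _ (by omega) (by omega))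
          rw [Nat.add_sub_cancel' h.le] at this
          exact this.symm
      rw [sq, hcm.symm.mul_mul_mul_comm, hsq, hsq, one_mul]
  refine ⟨cs.lift ⟨_, hl⟩, fun i hi => ⟨cs.simple ⟨i, hi⟩, ?_⟩⟩
  rw [CoxeterSystem.lift_apply_simple]

/-! ### The model -/

/-- The transposition of two neighbours. -/
def sw (n i : ℕ) : Perm (Fin n) := if h : i + 1 < n then swap ⟨i, by omega⟩ ⟨i + 1, h⟩ else 1

theorem sw_of {n i : ℕ} (h : i + 1 < n) : sw n i = swap ⟨i, by omega⟩ ⟨i + 1, h⟩ := dif_pos h

theorem rot_val {n : ℕ} [NeZero n] (j : Fin n) :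
    (finRotate n j : ℕ) = if (j : ℕ) + 1 < n then (j : ℕ) + 1 else 0 := by
  rw [finRotate_apply, Fin.val_add, Fin.val_one']
  have := j.isLt
  by_cases h : n = 1
  · subst h; simp
  have h1 : 1 < n := by have := NeZero.pos n; omega
  rw [Nat.mod_eq_of_lt h1]
  split_ifs with h'
  · exact Nat.mod_eq_of_lt h'
  · rw [show (j : ℕ) + 1 = n by omega, Nat.mod_self]

theorem rot_sw {n i : ℕ} [NeZero n] (h : i + 2 < n) : finRotate n * sw n i * (finRotate n)⁻¹ = sw n (i + 1) := by
  rw [sw_of (show i + 1 < n by omega), sw_of (show i + 1 + 1 < n by omega), ← swap_apply_apply]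
  congr 1 <;> apply Fin.ext <;> rw [rot_val]
  · rw [if_pos (by simp only; omega)]
  · rw [if_pos (by simp only; omega)]

theorem xs_mod {n : ℕ} [NeZero n] : ∀ i, i + 1 < n → xs (sw n 0) (finRotate n) i = sw n i
  | 0, _ => by simp [xs]
  | i + 1, h => by rw [xs_succ, xs_mod i (by omega), rot_sw (by omega)]

theorem sprod_mod (n : ℕ) [NeZero n] : sprod (sw n 0) (finRotate n) n = finRotate n := by
  rw [sprod]
  have hmap : (List.range (n - 1)).map (xs (sw n 0) (finRotate n)) = (List.range (n - 1)).map (sw n) :=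
    List.map_congr_left fun i hi => xs_mod i (by rw [List.mem_range] at hi; omega)
  rw [hmap]
  have key : ∀ k, k < n → ∀ j : Fin n, (((List.range k).map (sw n)).prod j : ℕ) =
      if (j : ℕ) < k then (j : ℕ) + 1 else if (j : ℕ) = k then 0 else (j : ℕ) := by
    intro k
    induction k with
    | zero => intro _ j; simp only [List.range_zero, List.map_nil, List.prod_nil, Perm.one_apply]; split_ifs <;> omega
    | succ k ih =>
      intro hk j
      rw [List.range_succ, List.map_append, List.prod_append, List.map_singleton, List.prod_singleton,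
        Perm.mul_apply, ih (by omega), sw_of hk, swap_apply_def]
      by_cases h1 : j = (⟨k, by omega⟩ : Fin n)
      · subst h1; simp
      · by_cases h2 : j = (⟨k + 1, hk⟩ : Fin n)
        · subst h2; simp
        · rw [if_neg h1, if_neg h2]
          simp only [Fin.ext_iff] at h1 h2
          split_ifs <;> omega
  ext j
  rw [key (n - 1) (by have := NeZero.pos n; omega) j, rot_val]
  have := j.isLt
  split_ifs <;> omega

theorem closure_sym (n : ℕ) [NeZero n] (hn : 2 ≤ n) (H : Subgroup (Perm (Fin n))) (hx : sw n 0 ∈ H)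
    (ht : finRotate n ∈ H) : H = ⊤ := by
  rw [eq_top_iff, ← Perm.closure_cycle_adjacent_swap (isCycle_finRotate_of_le hn)
    (support_finRotate_of_le hn) (⟨0, by omega⟩ : Fin n), Subgroup.closure_le]
  rintro g (rfl | rfl)
  · exact ht
  · have e : finRotate n (⟨0, by omega⟩ : Fin n) = ⟨0 + 1, by omega⟩ :=
      Fin.ext (by rw [rot_val, if_pos (by simp only; omega)])
    rw [e]
    rw [sw_of (show 0 + 1 < n by omega)] at hx
    exact hx

theorem presents_sym {k r m : ℕ} (hm : 1 ≤ m) (L : List (FreeGroup (Fin k))) (X T : FreeGroup (Fin k))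
    (π : FreeGroup (Fin k) →* Perm (Fin (m + 1))) (hlen : L.length ≤ r)
    (hX : π X = sw (m + 1) 0) (hT : π T = finRotate (m + 1)) (hrel : ∀ x ∈ L, π x = 1)
    (h : ∀ (G : Type) [Group G] (ψ : FreeGroup (Fin k) →* G), (∀ x ∈ L, ψ x = 1) →
      ∃ Φ : Perm (Fin (m + 1)) →* G, ∀ i, ψ (FreeGroup.of i) ∈ Φ.range) :
    Presents (Perm (Fin (m + 1))) k r := by
  refine ⟨L, π, hlen, ?_, hrel, fun G _ ψ hψ hL => ?_⟩
  · rw [← MonoidHom.range_eq_top]
    exact closure_sym _ (by omega) _ ⟨X, hX⟩ ⟨T, hT⟩
  · obtain ⟨Φ, hΦ⟩ := h G ψ hL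
    have hs : Function.Surjective Φ := by
      rw [← MonoidHom.range_eq_top, eq_top_iff, ← MonoidHom.range_eq_top.mpr hψ, MonoidHom.range_eq_map,
        ← FreeGroup.closure_range_of, MonoidHom.map_closure, Subgroup.closure_le]
      rintro _ ⟨_, ⟨i, rfl⟩, rfl⟩
      exact hΦ i
    exact ⟨Finite.of_surjective _ hs, Nat.card_le_card_of_surjective _ hs⟩

theorem range_of_xs {G : Type*} [Group G] {m : ℕ} (hm : 1 ≤ m) {x t : G} (Φ : Perm (Fin (m + 1)) →* G)
    (h : ∀ i < m, xs x t i ∈ Φ.range) (ht : t = sprod x t (m + 1)) : x ∈ Φ.range ∧ t ∈ Φ.range := by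
  refine ⟨by simpa [xs] using h 0 hm, ?_⟩
  rw [ht, sprod]
  refine list_prod_mem fun g hg => ?_
  obtain ⟨j, hj, rfl⟩ := List.mem_map.mp hg
  exact h j (by rw [List.mem_range] at hj; omega)

/-- Few points. -/
theorem sym_small (m : ℕ) (hm : 1 ≤ m) (hm6 : m ≤ 5) : Presents (Perm (Fin (m + 1))) 2 6 := by
  let X : FreeGroup (Fin 2) := .of 0
  let T : FreeGroup (Fin 2) := .of 1
  let π : FreeGroup (Fin 2) →* Perm (Fin (m + 1)) := FreeGroup.lift ![sw (m + 1) 0, finRotate (m + 1)]
  have hX : π X = sw (m + 1) 0 := by simp [π, X]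
  have hT : π T = finRotate (m + 1) := by simp [π, T]
  refine presents_sym hm
    (X * X :: X * xs X T 1 * (X * xs X T 1) * (X * xs X T 1) :: T * (sprod X T (m + 1))⁻¹ ::
      (List.range' 2 (m - 2)).map (fun d => X * xs X T d * (xs X T d * X)⁻¹)) X T π
    (by simp only [List.length_cons, List.length_map, List.length_range']; omega)
    hX hT (fun g hg => ?_) fun G _ ψ hL => ?_
  · simp only [List.mem_cons, List.mem_map, List.mem_range'_1] at hg
    rcases hg with rfl | rfl | rfl | ⟨d, ⟨hd1, hd2⟩, rfl⟩
    · rw [map_mul, hX, sw_of (show 0 + 1 < m + 1 by omega), swap_mul_self]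
    · simp only [map_mul, map_xs, hX, hT]
      rcases Nat.lt_or_ge m 2 with h | h
      · obtain rfl : m = 1 := by omega
        decide
      · rw [xs_mod 1 (by omega), sw_of (show 0 + 1 < m + 1 by omega), sw_of (show 1 + 1 < m + 1 by omega)]
        exact Moore.cube_swaps (by simp) (by simp) (by simp)
    · rw [map_mul, map_inv, map_sprod, hX, hT, sprod_mod, mul_inv_cancel]
    · rw [map_mul, map_inv, map_mul, map_mul, map_xs, hX, hT, xs_mod d (by omega), mul_inv_eq_one,
        sw_of (show 0 + 1 < m + 1 by omega), sw_of (show d + 1 < m + 1 by omega)]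
      exact Moore.commute_swaps (by simp [Fin.ext_iff]; omega) (by simp [Fin.ext_iff])
        (by simp [Fin.ext_iff]; omega) (by simp [Fin.ext_iff]; omega)
  · have e1 : ψ X * ψ X = 1 := by rw [← map_mul]; exact hL _ (List.mem_cons_self ..)
    have e2 := hL _ (List.mem_cons_of_mem _ (List.mem_cons_self ..))
    simp only [map_mul, map_xs] at e2
    have e3 : ψ T = sprod (ψ X) (ψ T) (m + 1) := by
      have := hL _ (List.mem_cons_of_mem _ (List.mem_cons_of_mem _ (List.mem_cons_self ..)))
      rwa [map_mul, map_inv, map_sprod, mul_inv_eq_one] at this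
    obtain ⟨Φ, hΦ⟩ := exists_hom_shift m (m - 1) (ψ X) (ψ T) (by omega) e1
      (braid_of_cube e1 (by
        simp only [xs, pow_one]
        calc _ = ψ T * (ψ X * ψ X) * (ψ T)⁻¹ := by group
          _ = 1 := by rw [e1]; group) e2)
      (fun d h1 h2 => by
        have := hL (X * xs X T d * (xs X T d * X)⁻¹) (List.mem_cons_of_mem _ (List.mem_cons_of_mem _
          (List.mem_cons_of_mem _ (List.mem_map.mpr ⟨d, List.mem_range'_1.mpr ⟨h1, by omega⟩, rfl⟩))))
        simp only [map_mul, map_inv, map_xs, mul_inv_rev, mul_assoc] at this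
        rw [← mul_assoc, ← mul_inv_rev, mul_inv_eq_one] at this
        exact this) e3
    obtain ⟨hx, ht⟩ := range_of_xs hm Φ hΦ e3
    exact ⟨Φ, fun i => by fin_cases i; exacts [hx, ht]⟩

end CfsgLib.AltPres.TwoGen
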