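import Cfsg.Agent.Lib.AltPres.TwoGen.Sym

/-!
# Seven relations for symmetric groups
-/

set_option autoImplicit false

namespace CfsgLib.AltPres.TwoGen

open Equiv CfsgLib.AltPres CfsgLib.SLPres

/-! ### Permutations pushed along embeddings -/

section Via

variable {α β γ : Type*}

theorem via_eq (f : α ↪ β) (g : Perm α) (h : Perm β) (h1 : ∀ x, h (f x) = f (g x))
    (h2 : ∀ y, y ∉ Set.range f → h y = y) : Perm.viaEmbeddingHom f g = h := by
  ext1 y
  rw [Perm.viaEmbeddingHom_apply]
  by_cases hy : y ∈ Set.range f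
  · obtain ⟨x, rfl⟩ := hy
    rw [Perm.viaEmbedding_apply, h1]
  · rw [Perm.viaEmbedding_apply_of_notMem _ _ _ hy, h2 y hy]

theorem via_trans (f : α ↪ β) (g : β ↪ γ) (s : Perm α) :
    Perm.viaEmbeddingHom g (Perm.viaEmbeddingHom f s) = Perm.viaEmbeddingHom (f.trans g) s := by
  refine (via_eq _ _ _ (fun x => ?_) fun z hz => ?_).symm
  · simp only [Function.Embedding.trans_apply, Perm.viaEmbeddingHom_apply, Perm.viaEmbedding_apply]
  · rw [Perm.viaEmbeddingHom_apply]
    by_cases hy : z ∈ Set.range g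
    · obtain ⟨y, rfl⟩ := hy
      rw [Perm.viaEmbedding_apply, Perm.viaEmbeddingHom_apply, Perm.viaEmbedding_apply_of_notMem]
      rintro ⟨x, rfl⟩
      exact hz ⟨x, rfl⟩
    · exact Perm.viaEmbedding_apply_of_notMem _ _ _ hy

theorem via_swap [DecidableEq α] [DecidableEq β] (f : α ↪ β) (a b : α) :
    Perm.viaEmbeddingHom f (swap a b) = swap (f a) (f b) := by
  refine via_eq _ _ _ (fun x => (f.injective.swap_apply a b x)) fun y hy => ?_
  exact swap_apply_of_ne_of_ne (fun h => hy ⟨a, h.symm⟩) (fun h => hy ⟨b, h.symm⟩)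

theorem via_conj (f f' : α ↪ β) (t : Perm β) (h : ∀ x, t (f x) = f' x) (g : Perm α) :
    t * Perm.viaEmbeddingHom f g * t⁻¹ = Perm.viaEmbeddingHom f' g := by
  refine (via_eq _ _ _ (fun x => ?_) fun y hy => ?_).symm
  · rw [Perm.mul_apply, Perm.mul_apply, ← h, show t⁻¹ (t (f x)) = f x from t.symm_apply_apply _,
      Perm.viaEmbeddingHom_apply, Perm.viaEmbedding_apply, h]
  · rw [Perm.mul_apply, Perm.mul_apply, Perm.viaEmbeddingHom_apply, Perm.viaEmbedding_apply_of_notMem,
      show t (t⁻¹ y) = y from t.apply_symm_apply y]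
    rintro ⟨x, hx⟩
    exact hy ⟨x, by rw [← h, hx]; exact t.apply_symm_apply y⟩

theorem sign_via [DecidableEq α] [Fintype α] [DecidableEq β] [Fintype β] (f : α ↪ β) (g : Perm α) :
    Perm.sign (Perm.viaEmbeddingHom f g) = Perm.sign g := by
  classical
  rw [Perm.viaEmbeddingHom_apply, Perm.viaEmbedding]
  convert Perm.sign_extendDomain g (Equiv.ofInjective f.1 f.2) using 3

end Via

/-- An odd element extends a homomorphism of the alternating group. -/
theorem extend_hom {α : Type*} [Fintype α] [DecidableEq α] {G : Type*} [Group G]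
    (θ : alternatingGroup α →* G) (b : G) (σ : Perm α) (hσ : Perm.sign σ = -1) (hI : Impl θ b σ)
    (q : alternatingGroup α) (hq : (q : Perm α) = σ * σ) (hb : b * b = θ q) :
    ∃ Θ : Perm α →* G, (∀ h : alternatingGroup α, Θ h = θ h) ∧ Θ σ = b := by
  classical
  have hev : ∀ g, g ∉ alternatingGroup α → σ⁻¹ * g ∈ alternatingGroup α := fun g hg => by
    rw [Perm.mem_alternatingGroup] at hg ⊢
    rw [map_mul, map_inv, hσ, Int.units_inv_eq_self,
      (Int.units_eq_one_or (Perm.sign g)).resolve_left hg]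
    rfl
  let F : Perm α → G := fun g =>
    if h : g ∈ alternatingGroup α then θ ⟨g, h⟩ else b * θ ⟨σ⁻¹ * g, hev g h⟩
  have hswap : ∀ h : alternatingGroup α, θ h * b = b * θ (MulAut.conjNormal σ⁻¹ h) := fun h => by
    have := hI.inv h
    rw [← this]; group
  refine ⟨MonoidHom.mk' F fun g g' => ?_, fun h => ?_, ?_⟩
  · have hmul : g * g' ∈ alternatingGroup α ↔ (g ∈ alternatingGroup α ↔ g' ∈ alternatingGroup α) := by
      simp only [Perm.mem_alternatingGroup, map_mul]
      rcases Int.units_eq_one_or (Perm.sign g) with h1 | h1 <;>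
        rcases Int.units_eq_one_or (Perm.sign g') with h2 | h2 <;> simp [h1, h2]
    simp only [F]
    by_cases hg : g ∈ alternatingGroup α <;> by_cases hg' : g' ∈ alternatingGroup α
    · rw [dif_pos (hmul.mpr (by simp [hg, hg'])), dif_pos hg, dif_pos hg', ← map_mul]; rfl
    · rw [dif_neg (by rw [hmul]; simp [hg, hg']), dif_pos hg, dif_neg hg', ← mul_assoc (θ ⟨g, hg⟩), hswap,
        mul_assoc b, ← map_mul]
      congr 2
      apply Subtype.ext
      simp only [Subgroup.coe_mul, MulAut.conjNormal_apply]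
      group
    · rw [dif_neg (by rw [hmul]; simp [hg, hg']), dif_neg hg, dif_pos hg', mul_assoc, ← map_mul]
      congr 2
    · rw [dif_pos (hmul.mpr (by simp [hg, hg'])), dif_neg hg, dif_neg hg', mul_assoc b, ← mul_assoc _ b,
        hswap, ← mul_assoc b, ← mul_assoc b, hb, mul_assoc, ← map_mul, ← map_mul]
      congr 1
      apply Subtype.ext
      simp only [Subgroup.coe_mul, MulAut.conjNormal_apply, hq]
      group
  · show F h = θ h
    simp only [F]
    rw [dif_pos h.2]
  · have h1 : σ ∉ alternatingGroup α := by rw [Perm.mem_alternatingGroup, hσ]; decide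
    show F σ = b
    simp only [F]
    rw [dif_neg h1, show (⟨σ⁻¹ * σ, hev σ h1⟩ : alternatingGroup α) = 1 from Subtype.ext (inv_mul_cancel σ),
      map_one, mul_one]

/-- Many points. -/
theorem sym_large (m p : ℕ) [Fact p.Prime] (h5 : 5 ≤ p) (hpm : p + 1 ≤ m) (hm : m + 1 ≤ 2 * p + 2) {k : ℕ}
    (i₀ i₁ : Fin k) (π : Perm (Fin (m + 1)) → FreeGroup (Fin k) →* Perm (Fin (m + 1)))
    (hπ0 : ∀ g, π g (.of i₀) = sw (m + 1) 0) (hπ1 : ∀ g, π g (.of i₁) = finRotate (m + 1))
    (hA : ∀ g, ∃ A : FreeGroup (Fin k), π g A = g ∧ Subgroup.closure {.of i₀, .of i₁, A} = ⊤) :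
    Presents (Perm (Fin (m + 1))) k 7 := by
  classical
  have hp2 : p ≠ 2 := by omega
  have hpodd : Odd p := (Fact.out : p.Prime).odd_of_ne_two hp2
  obtain ⟨r, u, hre, hu, hgen, hr2, hsu⟩ := exists_even_root p h5
  have e : Fin (p + 2) ≃ Bool ⊕ ZMod p := Fintype.equivOfCardEq (by
    rw [Fintype.card_sum, Fintype.card_bool, Fintype.card_fin, ZMod.card]; omega)
  let ι : Bool ⊕ ZMod p ↪ Fin (m + 1) := e.symm.toEmbedding.trans (Fin.castLEEmb (by omega))
  let f0 : Fin (p + 1) ↪ Bool ⊕ ZMod p := Fin.castSuccEmb.trans e.toEmbedding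
  let f1 : Fin (p + 1) ↪ Bool ⊕ ZMod p := (Fin.succEmb (p + 1)).trans e.toEmbedding
  let ν := Perm.viaEmbeddingHom ι
  let ν0 := Perm.viaEmbeddingHom f0
  let ν1 := Perm.viaEmbeddingHom f1
  let μ : alternatingGroup (Bool ⊕ ZMod p) →* Perm (Fin (m + 1)) :=
    ν.comp (alternatingGroup (Bool ⊕ ZMod p)).subtype
  -- the small symmetric group
  set c : Perm (Fin (p + 1)) := finRotate (p + 1)
  set S : Perm (Fin (p + 1)) := sw (p + 1) 0 with hS
  set V : Perm (Fin (p + 1)) := S * c with hV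
  have hSdef : S = swap ⟨0, by omega⟩ ⟨0 + 1, by omega⟩ := sw_of (by omega)
  have hS2 : S * S = 1 := by rw [hSdef, swap_mul_self]
  have hSsign : Perm.sign S = -1 := by rw [hSdef, Perm.sign_swap (by simp)]
  have hVsign : Perm.sign V = 1 := by
    rw [hV, map_mul, hSsign, sign_finRotate, Nat.add_sub_cancel, hpodd.neg_one_pow, Int.units_mul_self]
  have hVpow : V ^ p = 1 := by
    have hsucc : ∀ (n : ℕ) (j : Fin p), (V ^ n) j.succ = ((finRotate p ^ n) j).succ := by
      intro n
      induction n with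
      | zero => simp
      | succ n ih =>
        intro j
        have : NeZero p := ⟨by omega⟩
        rw [pow_succ', pow_succ']
        show V ((V ^ n) j.succ) = (finRotate p ((finRotate p ^ n) j)).succ
        rw [ih]
        generalize (finRotate p ^ n) j = j
        show S (c j.succ) = (finRotate p j).succ
        apply Fin.ext
        rw [hSdef, swap_apply_def, Fin.val_succ, rot_val]
        have hv : (c j.succ : ℕ) = if (j : ℕ) + 1 + 1 < p + 1 then (j : ℕ) + 1 + 1 else 0 := by
          rw [rot_val, Fin.val_succ]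
        by_cases hlast : (j : ℕ) + 1 + 1 < p + 1
        · rw [if_pos hlast] at hv
          rw [if_neg (by rw [Fin.ext_iff, hv]; simp only; omega),
            if_neg (by rw [Fin.ext_iff, hv]; simp only; omega), hv, if_pos (by omega)]
        · rw [if_neg hlast] at hv
          rw [if_pos (Fin.ext hv), if_neg (by omega)]
    ext1 x
    induction x using Fin.cases with
    | zero =>
      refine Perm.pow_apply_eq_self_of_apply_eq_self ?_ p
      apply Fin.ext
      rw [hV, hSdef, Perm.mul_apply]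
      rw [show c 0 = (⟨0 + 1, by omega⟩ : Fin (p + 1)) from Fin.ext (by rw [rot_val]; simp; omega),
        swap_apply_right]
      rfl
    | succ j => rw [hsucc, finRotate_pow_self p (by omega)]; rfl
  have hcpow : c ^ (p + 1) = 1 := finRotate_pow_self _ (by omega)
  have hSV : S * V = c := by rw [hV, ← mul_assoc, hS2, one_mul]
  have hgenS : Subgroup.closure ({S, V} : Set (Perm (Fin (p + 1)))) = ⊤ := by
    refine closure_sym (p + 1) (by omega) _ (Subgroup.subset_closure (Set.mem_insert _ _)) ?_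
    show c ∈ _
    rw [← hSV]
    exact mul_mem (Subgroup.subset_closure (Set.mem_insert _ _))
      (Subgroup.subset_closure (Set.mem_insert_of_mem _ rfl))
  -- elements of the copy
  let bp : Perm (Bool ⊕ ZMod p) := multP p u false
  have hbsign : Perm.sign bp = -1 := by rw [show bp = multP p u false from rfl, multP, sign_sumCongr', hsu]; rfl
  have hbev : ∀ s, Perm.sign s = -1 → bp⁻¹ * s ∈ alternatingGroup (Bool ⊕ ZMod p) := fun s hs => by
    rw [Perm.mem_alternatingGroup, map_mul, map_inv, hbsign, hs, Int.units_inv_eq_self, Int.units_mul_self]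
  let am : alternatingGroup (Bool ⊕ ZMod p) := ⟨shiftP p, shiftP_mem p hp2⟩
  let qb : alternatingGroup (Bool ⊕ ZMod p) := ⟨bp * bp, by
    rw [Perm.mem_alternatingGroup, map_mul, Int.units_mul_self]⟩
  let σ0 : alternatingGroup (Bool ⊕ ZMod p) := ⟨bp⁻¹ * ν0 S, hbev _ (by rw [sign_via, hSsign])⟩
  let σ1 : alternatingGroup (Bool ⊕ ZMod p) := ⟨bp⁻¹ * ν1 S, hbev _ (by rw [sign_via, hSsign])⟩
  let v0 : alternatingGroup (Bool ⊕ ZMod p) := ⟨ν0 V, by rw [Perm.mem_alternatingGroup, sign_via, hVsign]⟩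
  let v1 : alternatingGroup (Bool ⊕ ZMod p) := ⟨ν1 V, by rw [Perm.mem_alternatingGroup, sign_via, hVsign]⟩
  -- the free group
  obtain ⟨A, hπA, hgenF⟩ := hA (μ am)
  set P := π (μ am)
  set X : FreeGroup (Fin k) := .of i₀
  set T : FreeGroup (Fin k) := .of i₁
  have hPX : P X = sw (m + 1) 0 := hπ0 _
  have hPT : P T = finRotate (m + 1) := hπ1 _
  have hsurj : Function.Surjective P := by
    rw [← MonoidHom.range_eq_top]
    exact closure_sym _ (by omega) _ ⟨X, hPX⟩ ⟨T, hPT⟩
  obtain ⟨Z, hPZ⟩ := hsurj (μ (cycA 0))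
  obtain ⟨wa, hwa⟩ := exists_word am
  obtain ⟨w0, hw0⟩ := exists_word σ0
  obtain ⟨w1, hw1⟩ := exists_word σ1
  obtain ⟨wv, hwv⟩ := exists_word v0
  obtain ⟨wv', hwv'⟩ := exists_word v1
  obtain ⟨wq, hwq⟩ := exists_word (am * qb)
  let Wd := fun w => FreeGroup.lift (zfn p A Z) w
  let B : FreeGroup (Fin k) := X * (Wd w0)⁻¹
  let L : List (FreeGroup (Fin k)) :=
    [B * Z * B⁻¹ * Z⁻¹, B * A * B⁻¹ * (A ^ r)⁻¹, A ^ p * (Z * Z * Z)⁻¹,
      Z * (A * Z * A⁻¹) * (Z * (A * Z * A⁻¹)),
      T * X * T⁻¹ * (B * Wd w1)⁻¹,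
      T * Wd wv * T⁻¹ * (Wd wv' * ((A * B * B)⁻¹ * Wd wq))⁻¹,
      T * (sprod X T (m + 1))⁻¹]
  -- facts about the model
  have hι0 : ∀ x, (f0.trans ι) x = Fin.castLE (show p + 1 ≤ m + 1 by omega) x := fun x => by
    apply Fin.ext; simp [ι, f0]
  have hι1 : ∀ x, ((f1.trans ι) x : ℕ) = (x : ℕ) + 1 := fun x => by simp [ι, f1]
  have hνS0 : ν (ν0 S) = sw (m + 1) 0 := by
    rw [via_trans, hSdef, via_swap, sw_of (show 0 + 1 < m + 1 by omega), hι0, hι0]
    rfl
  have hshiftM : ∀ g, finRotate (m + 1) * ν (ν0 g) * (finRotate (m + 1))⁻¹ = ν (ν1 g) := fun g => by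
    rw [via_trans, via_trans]
    refine via_conj _ _ _ (fun x => Fin.ext ?_) g
    rw [hι0, hι1, rot_val, Fin.val_castLE,
      if_pos (by omega)]
  have hzf : ∀ i, zfn p (μ am) (μ (cycA 0)) i = μ (cycA i) := by
    intro i
    rw [zfn, ← map_pow, ← map_inv, ← map_mul, ← map_mul]
    congr 1
    rw [← conjNormal_self]
    have : ∀ m : ℕ, MulAut.conjNormal ((am ^ m : alternatingGroup (Bool ⊕ ZMod p)) : Perm (Bool ⊕ ZMod p))
        (cycA 0) = cycA (m : ZMod p) := by
      intro m
      induction m with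
      | zero => simp
      | succ n ih => rw [pow_succ', Subgroup.coe_mul, map_mul, MulAut.mul_apply, ih]; simp [am, shiftP_cycA]
    rw [this, ZMod.natCast_zmod_val]
  have hW : ∀ w, P (Wd w) = μ (FreeGroup.lift cycA w) := fun w => by
    rw [map_word, hπA, hPZ]
    exact word_eq μ (μ am) (μ (cycA 0)) (fun i => (hzf i).symm) w
  have hPB : P B = ν bp := by
    rw [map_mul, map_inv, hPX, hW, hw0, ← hνS0]
    show ν (ν0 S) * (ν (bp⁻¹ * ν0 S))⁻¹ = _
    rw [map_mul, map_inv]; group
  have ha1 : am * cycA 0 * am⁻¹ = cycA 1 := by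
    rw [← conjNormal_self]; exact (shiftP_cycA p 0).trans (by rw [zero_add])
  refine presents_sym (by omega) L X T P (by simp [L]) hPX hPT (fun x hx => ?_) fun G _ ψ hL => ?_
  · simp only [L, List.mem_cons, List.not_mem_nil, or_false] at hx
    rcases hx with rfl | rfl | rfl | rfl | rfl | rfl | rfl <;>
      simp only [map_mul P, map_inv P, map_pow P, map_sprod P, hPB, hW, hw0, hw1, hwv, hwv', hwq, hπA,
        hPX, hPT, hPZ, mul_inv_eq_one]
    · show ν bp * ν (cyc3 0) * (ν bp)⁻¹ = ν (cyc3 0)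
      rw [← map_inv, ← map_mul, ← map_mul]
      congr 1
      exact congrArg Subtype.val ((multP_cycA p u false 0).trans (by rw [mul_zero]))
    · show ν bp * ν (shiftP p) * (ν bp)⁻¹ = ν (shiftP p) ^ r
      rw [← map_inv, ← map_mul, ← map_mul, ← map_pow, multP_shift p u false r hu]
    · rw [← map_pow, show am ^ p = 1 from Subtype.ext (shiftP_pow_p p), ← map_mul, ← map_mul, cycA_cube,
        map_one]
    · rw [← map_inv μ, ← map_mul μ am, ← map_mul μ, ha1, ← map_mul μ, ← map_mul μ,
        cycA_pair _ _ zero_ne_one, map_one]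
    · show _ = ν bp * ν (bp⁻¹ * ν1 S)
      rw [← map_mul, mul_inv_cancel_left, ← hshiftM, hνS0]
    · show finRotate (m + 1) * ν (ν0 V) * (finRotate (m + 1))⁻¹ =
        ν (ν1 V) * ((ν (shiftP p) * ν bp * ν bp)⁻¹ * ν (shiftP p * (bp * bp)))
      rw [hshiftM, map_mul ν (shiftP p), map_mul ν bp]; group
    · exact (sprod_mod (m + 1)).symm
  · simp only [L, B, List.forall_mem_cons, List.not_mem_nil, IsEmpty.forall_iff, implies_true, and_true,
      map_mul, map_inv, map_pow, map_sprod, Wd, map_word, mul_inv_eq_one] at hL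
    set a := ψ A
    set z := ψ Z
    set x := ψ X
    set t := ψ T
    set b := x * (FreeGroup.lift (zfn p a z) w0)⁻¹ with hb
    obtain ⟨e1, e2, e3, e4, e5, e6, e7⟩ := hL
    clear_value b
    obtain ⟨hap, θ, hθ, Ia, Ib⟩ := exists_copy p a z b r u hu hre hgen false e1 e2 e3 e4
    have hxb : x = b * θ σ0 := by
      rw [← hw0, ← word_eq θ a z hθ w0, hb, inv_mul_cancel_right]
    simp only [word_eq θ a z hθ, hw1, hwv, hwv', hwq] at e5 e6
    have Ibb : Impl θ (b * b) ((qb : Perm (Bool ⊕ ZMod p))) := Ib.mul Ib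
    -- the two central parts
    set α := a⁻¹ * θ am with hα
    set β := (b * b)⁻¹ * θ qb with hβ
    have hαc : ∀ h, Commute α (θ h) := (by
      have := Ia.inv.mul (Impl.self (θ := θ) am)
      rw [show (shiftP p)⁻¹ * (am : Perm (Bool ⊕ ZMod p)) = 1 from inv_mul_cancel _] at this
      exact this.one_commute)
    have hβc : ∀ h, Commute β (θ h) := (by
      have := Ibb.inv.mul (Impl.self (θ := θ) qb)
      rw [inv_mul_cancel] at this
      exact this.one_commute)
    have haθ : Commute a⁻¹ (θ am) := (Ia.commute_self am (mul_inv_cancel_right _ _)).inv_left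
    have hαp : α ^ p = 1 := by
      rw [hα, haθ.mul_pow, inv_pow, hap, inv_one, one_mul, ← map_pow,
        show am ^ p = 1 from Subtype.ext (shiftP_pow_p p), map_one]
    have hbα : b * α * b⁻¹ = α ^ r := by
      have e' : b * θ am * b⁻¹ = θ am ^ r := by
        rw [Ib am, ← map_pow]
        congr 1
        exact Subtype.ext (multP_shift p u false r hu)
      calc b * α * b⁻¹ = (b * a * b⁻¹)⁻¹ * (b * θ am * b⁻¹) := by rw [hα]; group
        _ = _ := by rw [e2, e', hα, haθ.mul_pow, inv_pow]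
    have hbbα : b * b * α * (b * b)⁻¹ = α ^ (r * r) := by
      calc _ = b * (b * α * b⁻¹) * b⁻¹ := by group
        _ = _ := by rw [hbα, ← conj_pow, hbα, ← pow_mul]
    have hβα : β⁻¹ * α * β = α ^ (r * r) := by
      calc β⁻¹ * α * β = (θ qb)⁻¹ * (b * b * α * (b * b)⁻¹) * θ qb := by
            rw [hβ]; generalize b * b = c; group
        _ = _ := by rw [hbbα, mul_assoc, ((hαc qb).pow_left _).eq, inv_mul_cancel_left]
    have he6 : (a * b * b)⁻¹ * θ (am * qb) = β * α := by
      calc (a * b * b)⁻¹ * θ (am * qb) = (b * b)⁻¹ * (α * θ qb) := by rw [hα, map_mul]; group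
        _ = _ := by rw [(hαc qb).eq, hβ]; group
    rw [he6] at e6
    have hβαc : ∀ h, Commute (β * α) (θ h) := fun h => (hβc h).mul_left (hαc h)
    have hv0 : v0 ^ p = 1 := Subtype.ext (by
      rw [SubgroupClass.coe_pow]; show ν0 V ^ p = 1; rw [← map_pow, hVpow, map_one])
    have hv1 : v1 ^ p = 1 := Subtype.ext (by
      rw [SubgroupClass.coe_pow]; show ν1 V ^ p = 1; rw [← map_pow, hVpow, map_one])
    have hep : (β * α) ^ p = 1 := by
      have h1 : (t * θ v0 * t⁻¹) ^ p = 1 := by rw [conj_pow, ← map_pow, hv0, map_one]; group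
      rwa [e6, (hβαc _).symm.mul_pow, ← map_pow, hv1, map_one, one_mul] at h1
    have hα1 : α = 1 := eq_one_of_twist p α β r hr2 hαp hβα hep
    rw [hα1, mul_one] at e6 hep
    have ha : θ am = a := (inv_mul_eq_one.mp hα1).symm
    -- squares of odd elements
    have hbq : Commute b (θ qb) := Ib.commute_self qb (by
      show bp * (bp * bp) * bp⁻¹ = bp * bp
      group)
    have hβb : Commute β b :=
      ((Commute.refl b).mul_left (Commute.refl b)).inv_left.mul_left hbq.symm
    have hsq : ∀ s s2 : alternatingGroup (Bool ⊕ ZMod p), (s2 : Perm (Bool ⊕ ZMod p)) = bp * s * (bp * s) →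
        b * θ s * (b * θ s) = β⁻¹ * θ s2 := by
      intro s s2 hs
      have h1 : b⁻¹ * θ s * b = θ (MulAut.conjNormal bp⁻¹ s) := by
        have := Ib.inv s
        rw [inv_inv] at this
        exact this
      have h2 : qb * (MulAut.conjNormal bp⁻¹ s * s) = s2 := by
        apply Subtype.ext
        rw [hs, Subgroup.coe_mul, Subgroup.coe_mul, MulAut.conjNormal_apply]
        show bp * bp * _ = _
        group
      calc b * θ s * (b * θ s) = b * b * ((b⁻¹ * θ s * b) * θ s) := by group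
        _ = β⁻¹ * θ s2 := by
          rw [h1, ← map_mul θ, ← h2, map_mul θ qb, hβ, mul_inv_rev, inv_inv, ← mul_assoc,
            mul_assoc (θ qb)⁻¹ (b * b) (θ qb), (hbq.mul_left hbq).eq, inv_mul_cancel_left]
    have hxx : ∀ s : Perm (Fin (p + 1)), s * s = 1 → ∀ f : Perm (Fin (p + 1)) →* Perm (Bool ⊕ ZMod p),
        ∀ hs : bp⁻¹ * f s ∈ alternatingGroup (Bool ⊕ ZMod p),
        b * θ ⟨_, hs⟩ * (b * θ ⟨_, hs⟩) = β⁻¹ := by
      intro s hs f hf
      rw [hsq ⟨_, hf⟩ 1 (by simp [← map_mul, hs]), map_one, mul_one]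
    have hx2 : x * x = β⁻¹ := by rw [hxb]; exact hxx S hS2 ν0 σ0.2
    have hx12 : b * θ σ1 * (b * θ σ1) = β⁻¹ := hxx S hS2 ν1 σ1.2
    have htβ : Commute t β := by
      have : t * β⁻¹ * t⁻¹ = β⁻¹ := by
        rw [← hx2]
        calc t * (x * x) * t⁻¹ = t * x * t⁻¹ * (t * x * t⁻¹) := by group
          _ = _ := by rw [e5, hx12, hx2]
      exact inv_inv β ▸ (show Commute t β⁻¹ from mul_inv_eq_iff_eq_mul.mp this).inv_right
    obtain ⟨h, hh⟩ : ∃ h, p + 1 = 2 * h := ⟨(p + 1) / 2, by obtain ⟨j, hj⟩ := hpodd; omega⟩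
    have hlong : ∀ (f : Perm (Fin (p + 1)) →* Perm (Bool ⊕ ZMod p)) (s v : alternatingGroup (Bool ⊕ ZMod p)),
        (bp * s : Perm (Bool ⊕ ZMod p)) = f S → (v : Perm (Bool ⊕ ZMod p)) = f V →
        (b * θ s * θ v) ^ (p + 1) = (β⁻¹) ^ h := by
      intro f s v hs hv
      have hev : f c * f c ∈ alternatingGroup (Bool ⊕ ZMod p) := by
        rw [Perm.mem_alternatingGroup, map_mul, Int.units_mul_self]
      rw [hh, pow_mul, pow_two, mul_assoc b, ← map_mul θ, hsq (s * v) ⟨_, hev⟩ (by
        show f c * f c = _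
        rw [Subgroup.coe_mul, ← mul_assoc bp, hs, hv, ← map_mul f S V, hSV]), ((hβc _).inv_left).mul_pow,
        ← map_pow, show (⟨_, hev⟩ : alternatingGroup (Bool ⊕ ZMod p)) ^ h = 1 from Subtype.ext (by
          rw [SubgroupClass.coe_pow]
          show (f c * f c) ^ h = 1
          rw [← pow_two, ← pow_mul, ← hh, ← map_pow, hcpow, map_one]), map_one, mul_one]
    have hep1 : β ^ (p + 1) = 1 := by
      have h1 := hlong ν0 σ0 v0 (mul_inv_cancel_left bp _) rfl
      have h2 := hlong ν1 σ1 v1 (mul_inv_cancel_left bp _) rfl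
      have hc : Commute (b * θ σ1 * θ v1) β := (((hβb.mul_right (hβc σ1)).mul_right (hβc v1))).symm
      have h3 : (t * (b * θ σ0 * θ v0) * t⁻¹) ^ (p + 1) = (β⁻¹) ^ h := by
        rw [conj_pow, h1, ((htβ.inv_right).pow_right h).eq, mul_inv_cancel_right]
      rw [show t * (b * θ σ0 * θ v0) * t⁻¹ = b * θ σ1 * θ v1 * β by
        calc t * (b * θ σ0 * θ v0) * t⁻¹ = (t * x * t⁻¹) * (t * θ v0 * t⁻¹) := by rw [hxb]; group
          _ = _ := by rw [e5, e6]; group] at h3
      rwa [hc.mul_pow, h2, mul_eq_left] at h3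
    have hβ1 : β = 1 := by rwa [pow_succ, hep, one_mul] at hep1
    rw [hβ1, mul_one] at e6
    obtain ⟨Θ, hΘθ, hΘb⟩ := extend_hom θ b bp hbsign Ib qb rfl (by
      rw [← inv_mul_eq_one.mp (hβ.symm.trans hβ1)])
    have hΘx : Θ (ν0 S) = x := by
      rw [hxb, ← hΘb, ← hΘθ, ← map_mul]; congr 1; exact (mul_inv_cancel_left bp _).symm
    have hΘx1 : Θ (ν1 S) = t * x * t⁻¹ := by
      rw [e5, ← hΘb, ← hΘθ, ← map_mul]; congr 1; exact (mul_inv_cancel_left bp _).symm
    have hshift : ∀ g, t * Θ (ν0 g) * t⁻¹ = Θ (ν1 g) := fun g => by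
      have : (MulAut.conj t).toMonoidHom.comp (Θ.comp ν0) = Θ.comp ν1 :=
        MonoidHom.eq_of_eqOn_dense hgenS (by
          rintro s (rfl | rfl)
          · show t * Θ (ν0 S) * t⁻¹ = Θ (ν1 S)
            rw [hΘx, hΘx1]
          · show t * Θ (v0 : Perm (Bool ⊕ ZMod p)) * t⁻¹ = Θ (v1 : Perm (Bool ⊕ ZMod p))
            rw [hΘθ, hΘθ]
            exact e6)
      exact DFunLike.congr_fun this g
    -- neighbours in the copy
    let pt : ℕ → Bool ⊕ ZMod p := fun i => e (Fin.ofNat (p + 2) i)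
    have hpt : ∀ (i : ℕ) (hi : i < p + 2), pt i = e ⟨i, hi⟩ := fun i hi => by
      show e _ = _; congr 1; exact Fin.ext (Nat.mod_eq_of_lt hi)
    have hxi : ∀ i, i ≤ p → xs x t i = Θ (swap (pt i) (pt (i + 1))) := by
      intro i
      induction i with
      | zero =>
        intro _
        simp only [xs, pow_zero, one_mul, inv_one, mul_one]
        rw [← hΘx, hSdef, via_swap, hpt 0 (by omega), hpt (0 + 1) (by omega)]
        rfl
      | succ i ih =>
        intro hi
        rw [xs_succ, ih (by omega), hpt i (by omega), hpt (i + 1) (by omega), hpt (i + 1 + 1) (by omega)]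
        have := hshift (swap (⟨i, by omega⟩ : Fin (p + 1)) ⟨i + 1, by omega⟩)
        rw [via_swap, via_swap] at this
        exact this
    have hne : ∀ i j, i < p + 2 → j < p + 2 → i ≠ j → pt i ≠ pt j := fun i j hi hj hij h => by
      rw [hpt i hi, hpt j hj] at h
      exact hij (congrArg Fin.val (e.injective h))
    have hx1' : x = Θ (swap (pt 0) (pt (0 + 1))) := by rw [← hxi 0 (Nat.zero_le _)]; simp [xs]
    obtain ⟨Φ, hΦ⟩ := exists_hom_shift m p x t (by omega) (by rw [hx2, hβ1, inv_one]) (by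
        rw [hxi 1 (by omega), hx1', ← map_mul, ← map_mul, ← map_mul, ← map_mul]
        congr 1
        have h1 := swap_apply_apply (swap (pt 0) (pt (0 + 1))) (pt 1) (pt (1 + 1))
        have h2 := swap_apply_apply (swap (pt 1) (pt (1 + 1))) (pt 0) (pt (0 + 1))
        rw [swap_inv] at h1 h2
        rw [← h1, ← h2, swap_apply_right, swap_apply_left,
          swap_apply_of_ne_of_ne (hne _ _ (by omega) (by omega) (by omega))
            (hne _ _ (by omega) (by omega) (by omega)),
          swap_apply_of_ne_of_ne (hne _ _ (by omega) (by omega) (by omega))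
            (hne _ _ (by omega) (by omega) (by omega))])
      (fun d h1 h2 => by
        rw [hxi d h2, hx1']
        exact (Moore.commute_swaps (hne _ _ (by omega) (by omega) (by omega))
          (hne _ _ (by omega) (by omega) (by omega)) (hne _ _ (by omega) (by omega) (by omega))
          (hne _ _ (by omega) (by omega) (by omega))).map Θ) e7
    obtain ⟨hxΦ, htΦ⟩ := range_of_xs (by omega) Φ hΦ e7
    have hΘr : ∀ g, Θ g ∈ Φ.range := by
      have hsw : (⊤ : Subgroup (Perm (Fin (p + 2)))) ≤ (Φ.range.comap Θ).comap e.permCongrHom.toMonoidHom := by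
        rw [← Subgroup.toSubmonoid_le, Subgroup.top_toSubmonoid, ← Perm.mclosure_swap_castSucc_succ,
          Submonoid.closure_le]
        rintro _ ⟨i, rfl⟩
        show Θ (e.permCongr (swap i.castSucc i.succ)) ∈ Φ.range
        have hsw' : e.permCongr (swap i.castSucc i.succ) = swap (pt i) (pt (i + 1)) := by
          rw [hpt i (by omega), hpt (i + 1) (by omega), Equiv.permCongr_def]
          exact Equiv.symm_trans_swap_trans _ _ e
        rw [hsw', ← hxi i (by omega)]
        exact hΦ i (by omega)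
      intro g
      have h0 : e.permCongr (e.permCongrHom.symm g) = g := e.permCongrHom.apply_symm_apply g
      have : Θ (e.permCongr (e.permCongrHom.symm g)) ∈ Φ.range := hsw (Subgroup.mem_top _)
      rwa [h0] at this
    refine ⟨Φ, fun i => ?_⟩
    have hall : (⊤ : Subgroup (FreeGroup (Fin k))) ≤ Φ.range.comap ψ := by
      rw [← hgenF, Subgroup.closure_le]
      rintro y (rfl | rfl | rfl)
      · exact hxΦ
      · exact htΦ
      · show a ∈ Φ.range
        rw [← ha, ← hΘθ]
        exact hΘr _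
    exact hall (Subgroup.mem_top _)

/-- The symmetric groups, seven relations on two or on three generators. -/
theorem sym_presents (n : ℕ) : Presents (Perm (Fin n)) 2 7 ∧ Presents (Perm (Fin n)) 3 7 := by
  classical
  rcases Nat.lt_or_ge n 2 with hn | hn
  · have : Subsingleton (Perm (Fin n)) := by
      interval_cases n <;> infer_instance
    exact ⟨(presents_subsingleton 2).mono (by omega), (presents_subsingleton 3).mono (by omega)⟩
  obtain ⟨m, rfl⟩ : ∃ m, n = m + 1 := ⟨n - 1, by omega⟩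
  rcases Nat.lt_or_ge m 6 with hm | hm
  · have h := sym_small m (by omega) (by omega)
    exact ⟨h.mono (by omega), h.addGen⟩
  obtain ⟨p, hp, h1, h2, h5⟩ : ∃ p, p.Prime ∧ p + 1 ≤ m ∧ m + 1 ≤ 2 * p + 2 ∧ 5 ≤ p := by
    rcases Nat.lt_or_ge m 7 with h | h
    · exact ⟨5, Nat.prime_five, by omega, by omega, le_rfl⟩
    · obtain ⟨p, hp, hlo, hhi⟩ := Nat.exists_prime_lt_and_le_two_mul ((m - 1) / 2) (by omega)
      refine ⟨p, hp, by omega, by omega, ?_⟩
      rcases Nat.lt_or_ge p 5 with h' | h'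
      · exfalso
        have : p = 4 := by omega
        exact absurd (this ▸ hp) (by decide)
      · exact h'
  have : Fact p.Prime := ⟨hp⟩
  refine ⟨sym_large m p h5 h1 h2 (0 : Fin 2) 1
    (fun _ => FreeGroup.lift ![sw (m + 1) 0, finRotate (m + 1)]) (fun _ => by simp) (fun _ => by simp) fun g => ?_,
    sym_large m p h5 h1 h2 (0 : Fin 3) 1
    (fun g => FreeGroup.lift ![sw (m + 1) 0, finRotate (m + 1), g]) (fun _ => by simp) (fun _ => by simp) fun g =>
      ⟨.of 2, by simp, ?_⟩⟩
  · have hs : Function.Surjective (FreeGroup.lift ![sw (m + 1) 0, finRotate (m + 1)]) := by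
      rw [← MonoidHom.range_eq_top]
      exact closure_sym _ (by omega) _ ⟨.of 0, by simp⟩ ⟨.of 1, by simp⟩
    obtain ⟨A, hA⟩ := hs g
    refine ⟨A, hA, ?_⟩
    rw [eq_top_iff, ← FreeGroup.closure_range_of]
    exact Subgroup.closure_mono (by rintro _ ⟨i, rfl⟩; fin_cases i <;> simp)
  · rw [eq_top_iff, ← FreeGroup.closure_range_of]
    exact Subgroup.closure_mono (by rintro _ ⟨i, rfl⟩; fin_cases i <;> simp)

end CfsgLib.AltPres.TwoGen
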